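import Mathlib
import Cfsg.Agent.Prune
set_option linter.all false

-- part: OddHalf/Quat/KF
section
set_option linter.all false

/-!
# Node Q: the facts on the known group `K` which are used

`K` simple, `U` a Sylow 2-subgroup of `K`. For every known `K` (not listed, not covered by node NI) ONE of
`NoThree K`, `KBig U`, `KTwo U V`, `KZ K` is needed.
-/

set_option autoImplicit false

namespace Cfsg.Agent.OddHalf.Quat

open Subgroup

variable {K : Type*} [Group K]

/-- `Out(K)` has no element of order 3 -/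
def NoThree (K : Type*) [Group K] : Prop :=
  ∀ α : MulAut K, α * α * α ∈ (MulAut.conj : K →* MulAut K).range → α ∈ (MulAut.conj : K →* MulAut K).range

/-- the involutions in the centre of `U`, and `1` -/
def XZ (U : Subgroup K) : Set K := {x | x ∈ U ∧ x * x = 1 ∧ ∀ u ∈ U, u * x = x * u}

/-- groups of characteristic 2 over fields of order at least 4 -/
structure KBig (U : Subgroup K) : Prop where
  /-- `N_K(U)` fixes no involution of `Z(U)` -/
  mv : ∀ w ∈ XZ U, w ≠ 1 → ∃ r ∈ normalizer (U : Set K), r * w ≠ w * r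
  /-- a 2-automorphism normalising `U` and not centralising `Ω₁(Z(U))` centralises no subgroup of `U` of index `≤ 4` -/
  act : ∀ α : MulAut K, IsPGroup 2 (zpowers α) → (∀ u ∈ U, α u ∈ U) → (∃ x ∈ XZ U, α x ≠ x) →
    ∀ C : Subgroup K, C ≤ U → (∀ u ∈ C, α u = u) → 4 < C.relIndex U

/-- the twisted groups over the field of order 2: `U_3k(2)`, `³D₄(2)`, `²E₆(2)` -/
structure KTwo (U V : Subgroup K) : Prop where
  le : V ≤ U
  sq : ∀ x ∈ V, x * x = 1
  card : Nat.card V ≤ 16
  /-- `V` is normalised by every automorphism which normalises `U` -/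
  inv : ∀ α : MulAut K, (∀ u ∈ U, α u ∈ U) → ∀ x ∈ V, α x ∈ V
  /-- `Z(U)` has exactly one involution `w`, `w ∈ V`, and `N_K(V)` does not centralise `w` -/
  w : ∃ w ∈ V, w ≠ 1 ∧ (∀ x ∈ XZ U, x = 1 ∨ x = w) ∧ ∃ r : K, (∀ x ∈ V, r * x * r⁻¹ ∈ V) ∧ r * w ≠ w * r
  /-- `4` does not divide `|Out(K)|` -/
  out : ¬ 4 ∣ (MulAut.conj : K →* MulAut K).range.index
  big : 512 < Nat.card U

/-- `L₂(q)`, `q` odd: every involution of `K` commutes with an element `x` of order prime to `6` whose centralizer in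
`Aut(K)` contains no quaternion group of order 8 -/
def KZ (K : Type*) [Group K] : Prop :=
  ∀ z : K, orderOf z = 2 → ∃ x : K, x * z = z * x ∧ Nat.Coprime (orderOf x) 6 ∧
    ∀ Q : Subgroup (MulAut K), (∀ α ∈ Q, α x = x) → ¬ Nonempty (Q ≃* QuaternionGroup 2)

end Cfsg.Agent.OddHalf.Quat
end

-- part: OddHalf/Quat/NoThreeTools
section
set_option linter.all false
open scoped Cfsg.Agent.FastGrp

/-!
# Node Q: `NoThree`, tools
-/

set_option autoImplicit false

namespace Cfsg.Agent.OddHalf.Quat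

open Subgroup

theorem NoThree.normal_inn {K : Type*} [Group K] : ((MulAut.conj : K →* MulAut K).range).Normal := by
  refine ⟨?_⟩
  rintro _ ⟨g, rfl⟩ φ
  refine ⟨φ g, ?_⟩
  ext x
  show φ g * x * (φ g)⁻¹ = φ (g * φ⁻¹ x * g⁻¹)
  rw [map_mul, map_mul, map_inv]
  congr 2
  exact (φ.apply_symm_apply x).symm

/-- enough: `3` does not divide `|Out(K)|` -/
theorem NoThree.of_index {K : Type*} [Group K] (h : ¬ 3 ∣ ((MulAut.conj : K →* MulAut K).range).index) :
    NoThree K := by
  intro α hα
  have hn := NoThree.normal_inn (K := K)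
  set N := (MulAut.conj : K →* MulAut K).range with hN
  rw [← QuotientGroup.eq_one_iff (N := N)] at hα ⊢
  have h1 : ((α : MulAut K ⧸ N)) ^ 3 = 1 := by
    rw [pow_three, ← mul_assoc]
    exact hα
  have h2 : orderOf (α : MulAut K ⧸ N) ∣ 3 := orderOf_dvd_of_pow_eq_one h1
  rcases (Nat.dvd_prime Nat.prime_three).mp h2 with h3 | h3
  · exact orderOf_eq_one_iff.mp h3
  · exfalso
    apply h
    rw [← h3, index]
    exact orderOf_dvd_natCard _

/-- `α ^ n` inner, `3 ∤ n` -/
theorem NoThree.of_pow_apply {K : Type*} [Group K] {n : ℕ} (hn : ¬ 3 ∣ n) {α : MulAut K}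
    (h3 : α * α * α ∈ (MulAut.conj : K →* MulAut K).range)
    (h : α ^ n ∈ (MulAut.conj : K →* MulAut K).range) : α ∈ (MulAut.conj : K →* MulAut K).range := by
  have h3' : α ^ 3 ∈ (MulAut.conj : K →* MulAut K).range := by
    rw [pow_three, ← mul_assoc]
    exact h3
  have hc : Nat.Coprime 3 n := (Nat.Prime.coprime_iff_not_dvd Nat.prime_three).mpr hn
  have h4 : α ^ ((3 : ℕ) * Nat.gcdA 3 n + n * Nat.gcdB 3 n) = α := by
    rw [← Nat.gcd_eq_gcd_ab, hc.gcd_eq_one, Nat.cast_one, zpow_one]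
  rw [← h4, zpow_add, zpow_mul, zpow_mul, zpow_natCast, zpow_natCast]
  exact mul_mem (zpow_mem h3' _) (zpow_mem h _)

/-- all `α ^ n` are inner, `3 ∤ n` -/
theorem NoThree.of_pow {K : Type*} [Group K] {n : ℕ} (hn : ¬ 3 ∣ n)
    (h : ∀ α : MulAut K, α ^ n ∈ (MulAut.conj : K →* MulAut K).range) : NoThree K :=
  fun α hα => NoThree.of_pow_apply hn hα (h α)

/-- all automorphisms are inner -/
theorem NoThree.of_inner {K : Type*} [Group K] (h : ∀ α : MulAut K, α ∈ (MulAut.conj : K →* MulAut K).range) :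
    NoThree K := fun α _ => h α

/-- all automorphisms are inner -/
theorem NoThree.of_inner' {K : Type*} [Group K] (h : ∀ α : MulAut K, ∃ k : K, α = MulAut.conj k) :
    NoThree K := fun α _ => by
  obtain ⟨k, hk⟩ := h α
  exact ⟨k, hk.symm⟩

/-- `|Out(K)|` is a power of 2 -/
theorem NoThree.of_two_pow {K : Type*} [Group K] (h : ∃ n : ℕ, (MulAut.conj : K →* MulAut K).range.index = 2 ^ n) :
    NoThree K := by
  obtain ⟨n, hn⟩ := h
  apply NoThree.of_index
  rw [hn]
  intro h3
  exact absurd (Nat.prime_three.dvd_of_dvd_pow h3) (by norm_num)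

/-- `|Out(K)| ≤ 2` -/
theorem NoThree.of_le_two {K : Type*} [Group K]
    (h : (MulAut.conj : K →* MulAut K).range.index = 1 ∨ (MulAut.conj : K →* MulAut K).range.index = 2) :
    NoThree K := by
  rcases h with h | h
  · exact NoThree.of_two_pow ⟨0, by rw [h, pow_zero]⟩
  · exact NoThree.of_two_pow ⟨1, by rw [h, pow_one]⟩

/-- transport -/
theorem NoThree.congr {K L : Type*} [Group K] [Group L] (e : K ≃* L) (h : NoThree L) : NoThree K := by
  intro α hα
  obtain ⟨k, hk⟩ := hα
  obtain ⟨l, hl⟩ := h ((e.symm.trans α).trans e) ⟨e k, by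
    ext x
    have h1 : k * e.symm x * k⁻¹ = α (α (α (e.symm x))) := by
      have := congrArg (fun f : MulAut K => f (e.symm x)) hk
      simpa using this
    show e k * x * (e k)⁻¹ = e (α (e.symm (e (α (e.symm (e (α (e.symm x))))))))
    rw [e.symm_apply_apply, e.symm_apply_apply, ← h1]
    simp⟩
  refine ⟨e.symm l, ?_⟩
  ext y
  have h1 : l * e y * l⁻¹ = e (α (e.symm (e y))) := by
    have := congrArg (fun f : MulAut L => f (e y)) hl
    simpa using this
  rw [e.symm_apply_apply] at h1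
  have h2 := congrArg e.symm h1
  simpa using h2

end Cfsg.Agent.OddHalf.Quat
end
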