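import Cfsg.Agent.OddHalf.Quat.NoThreeSpor.J1
import Cfsg.Agent.OddHalf.D5.EightCleanSwp_m3
import Cfsg.Agent.S0814
import Cfsg.Agent.S0815
import Cfsg.Agent.S0816
import Cfsg.Agent.S0818
import Cfsg.Agent.OddHalf.D4.Rk2.Row_m3
import Cfsg.Agent.UGT.EndJ1.Main_m3
import Cfsg.Agent.S1152
import Cfsg.Agent.S1157
import Cfsg.Agent.S1073
import Cfsg.Agent.OddHalf.Quat.NoThreeTools
import Cfsg.Agent.GH.L2AutF
import Cfsg.Agent.OddHalf.D6.Cut_m3
import Cfsg.Agent.OddHalf.CaseM.NIOf_m3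
import Cfsg.Agent.FastGrp
import Cfsg.Agent.Prune
set_option linter.all false
prune_inst 0x7ffffdfbdff97ffedfff7e7faed9ddfc3995dfffffdff94bffe863ef8fdf030a09e5fb8d8de058fe1ee2629410a87853fffffeffea6ffc7ffffdfff45ffbee4fe5f7bd0851968c340fbc0fff03f0778e7f3fffffffffffffffffffffffffffbeffffffffffff
open scoped Cfsg.Agent.FastGrp

-- merged: Cfsg.Agent.OddHalf.Quat.NoThreeOdd
section

/-!
# Node Q: `NoThree` for the small groups over the field with three elements

* `lin` : `Lₙ(3)`, `n ≥ 3`; `uni` : `Uₙ(3)`, `n ≥ 3`; `sp` : `PSp₂ₘ(3)`; `odd` : `Ω₂ₘ₊₁(3)`; `minus` : `PΩ⁻₂ₘ(3)`;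
* `g2` : `G₂(3)`.
-/

set_option autoImplicit false
set_option linter.unusedSectionVars false

namespace Cfsg.Agent.OddHalf.Quat.NoThreeOdd

open Subgroup NoThreeL

variable {K : Type*} [Group K]

/-- **`Lₙ(3)`, `n ≥ 3`** -/
theorem lin {F : Type*} [Field F] [Fintype F] (hF : Fintype.card F = 3) {n : ℕ} (hn : 3 ≤ n)
    (hcen : center K = ⊥) (e : K ≃* Matrix.ProjectiveSpecialLinearGroup (Fin n) F) : NoThree K := by
  have : Finite K := Finite.of_equiv _ e.symm.toEquiv
  have : Fact (Nat.Prime 3) := ⟨Nat.prime_three⟩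
  have h1 := Cfsg.Agent.S0813.result (F := F) 3 1 le_rfl (by rw [hF, pow_one]) n (by omega) (fun h => by omega)
  rw [if_neg (by omega), mul_one, Cfsg.Agent.S0265.result, card_SL, ← card_mulAut_congr e,
    ← Nat.card_congr e.toEquiv, ← mul_assoc] at h1
  refine noThree_of_card hcen ?_ h1
  intro hd
  rcases (Nat.Prime.dvd_mul Nat.prime_three).mp hd with hd | hd
  · exact absurd hd (by norm_num)
  · -- `|Z(SL_n(3))|` divides `2`
    rw [Nat.card_congr (Matrix.SpecialLinearGroup.center_equiv_rootsOfUnity' (⟨0, by omega⟩ : Fin n)).toEquiv] at hd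
    have h5 : Nat.card ↥(rootsOfUnity (Fintype.card (Fin n)) F) ∣ Nat.card Fˣ := Subgroup.card_subgroup_dvd_card _
    classical
    have h6 : Nat.card Fˣ = 2 := by rw [Nat.card_eq_fintype_card, Fintype.card_units, hF]
    rw [h6] at h5
    exact absurd (hd.trans h5) (by norm_num)

/-- **`Uₙ(3)`, `n ≥ 3`** -/
theorem uni {F : Type*} [Field F] [Fintype F] (hF : Fintype.card F = 9) {n : ℕ} (hn : 3 ≤ n)
    (hcen : center K = ⊥) (e : K ≃* Cfsg.PSU n F 3) : NoThree K := by
  have : Finite K := Finite.of_equiv _ e.symm.toEquiv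
  have : Fact (Nat.Prime 3) := ⟨Nat.prime_three⟩
  have h1 := Cfsg.Agent.S0815.result (F := F) 3 1 le_rfl (q := 3) (by norm_num) (by rw [hF]; norm_num) n hn
    (by rintro ⟨-, h⟩; omega)
  rw [← card_mulAut_congr e, ← Nat.card_congr e.toEquiv] at h1
  refine noThree_of_card hcen ?_ h1
  intro hd
  have h2 : Nat.gcd n (3 + 1) * (2 * 1) ∣ 4 * 2 := Nat.mul_dvd_mul (Nat.gcd_dvd_right _ _) (by norm_num)
  exact absurd (hd.trans h2) (by norm_num)

/-- **`PSp₂ₘ(3)`, `m ≥ 2`** -/
theorem sp {F : Type*} [Field F] [Fintype F] (hF : Fintype.card F = 3) {m : ℕ} (hm : 2 ≤ m)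
    (hcen : center K = ⊥) (e : K ≃* Cfsg.PSp m F) : NoThree K := by
  have : Finite (Matrix (Fin m ⊕ Fin m) (Fin m ⊕ Fin m) F) := inferInstance
  have : Finite (Matrix.symplecticGroup (Fin m) F) := Subtype.finite
  have : Finite (Cfsg.PSp m F) := Quotient.finite _
  have : Finite K := Finite.of_equiv _ e.symm.toEquiv
  have : Fact (Nat.Prime 3) := ⟨Nat.prime_three⟩
  have h1 := Cfsg.Agent.S0814.result (F := F) 3 1 le_rfl (by rw [hF, pow_one]) m hm (fun _ => by norm_num)
  rw [← card_mulAut_congr e, ← Nat.card_congr e.toEquiv] at h1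
  refine noThree_of_card hcen ?_ h1
  intro hd
  rcases (Nat.Prime.dvd_mul Nat.prime_three).mp hd with hd | hd
  · rcases (Nat.Prime.dvd_mul Nat.prime_three).mp hd with hd | hd
    · split_ifs at hd <;> exact absurd hd (by norm_num)
    · exact absurd hd (by norm_num)
  · exact absurd hd (by norm_num)

/-- **`Ω₂ₘ₊₁(3)`, `m ≥ 3`** -/
theorem odd {F : Type*} [Field F] [Fintype F] (hF : Fintype.card F = 3) {m : ℕ} (hm : 3 ≤ m)
    (hcen : center K = ⊥) (e : K ≃* Cfsg.POmega F (Cfsg.quadFormOdd m F)) : NoThree K := by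
  have : Finite K := Finite.of_equiv _ e.symm.toEquiv
  have : Fact (Nat.Prime 3) := ⟨Nat.prime_three⟩
  have h1 := Cfsg.Agent.S0816.result (F := F) 3 1 le_rfl (by rw [hF, pow_one]) (by decide) m hm
  rw [← card_mulAut_congr e, ← Nat.card_congr e.toEquiv] at h1
  exact noThree_of_card hcen (m := 2 * 1) (by norm_num) h1

/-- **`PΩ⁻₂ₘ(3)`, `m ≥ 4`** -/
theorem minus {F : Type*} [Field F] [Fintype F] (hF : Fintype.card F = 3) {m : ℕ} (hm : 4 ≤ m) (a b : F)
    (hab : ∀ z₁ z₂ : F, z₁ ^ 2 + a * z₁ * z₂ + b * z₂ ^ 2 = 0 → z₁ = 0 ∧ z₂ = 0)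
    (hcen : center K = ⊥) (e : K ≃* Cfsg.POmega F (Cfsg.quadFormMinus (m - 1) F a b)) : NoThree K := by
  have : Finite K := Finite.of_equiv _ e.symm.toEquiv
  have : Fact (Nat.Prime 3) := ⟨Nat.prime_three⟩
  have h1 := Cfsg.Agent.S0818.result (F := F) 3 1 le_rfl (by rw [hF, pow_one]) m hm a b hab
  rw [if_neg (by norm_num), ← card_mulAut_congr e, ← Nat.card_congr e.toEquiv] at h1
  refine noThree_of_card hcen ?_ h1
  split_ifs <;> norm_num

/-! ### root group data with root groups of order 3 -/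

section rgd

open CoxeterSystem Cfsg.Agent.ChevalleyStructure.CoxeterGeom Cfsg.Agent.Tits.Roots Cfsg.Agent.Tits.Core
  Cfsg.Agent.Tits.Exchange Cfsg.Agent.Nodes.Reps Cfsg.Agent.Nodes.BNOf Cfsg.Agent.Nodes.StabComb
  Cfsg.Agent.Nodes.Bruhat Cfsg.Agent.Nodes.OppDec Cfsg.Agent.Nodes.LeviDec Cfsg.Agent.Nodes.NormalForm
  Cfsg.Agent.KFacts.RgdOpp Cfsg.Agent.KFacts.RgdAut Cfsg.Agent.KFacts.RgdDiag Cfsg.Agent.KFacts.RgdRigid
  Cfsg.Agent.KFacts.RgdEx NoThreeE

variable {I W Y : Type*} [Fintype I] [DecidableEq I] [Group W] [Group Y] {M : CoxeterMatrix I}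
  {cs : CoxeterSystem M W} {A : I → I → ℤ} {h : IsCartan M A} {p : ℕ} {T : Subgroup Y} {n : I → Y}
  {X : (I → ℤ) → Subgroup Y}

/-- `c` is an exponent of `Aut(X_{α_i})` -/
theorem exists_pow_inn (R : RGD cs h p T n X) [Finite W] [Finite Y] [Fact p.Prime]
    (hG1 : RGD.Sup X {x | IsRoot cs h x} = ⊤) {c : ℕ}
    (hcard : ∀ i, ∀ γ : MulAut Y, (∀ x, γ x ∈ X (sr i) ↔ x ∈ X (sr i)) → ∀ x ∈ X (sr i), (γ ^ c) x = x) {m : ℕ}
    (hM : ∀ σ : Equiv.Perm I, (∀ i j, M (σ i) (σ j) = M i j) → σ ^ m = 1) (α : MulAut Y) :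
    α ^ (m * c) ∈ (MulAut.conj : Y →* MulAut Y).range := by
  have hG : GG cs h T X = ⊤ := GG_eq_top hG1
  have hn := NoThreeL.normal_inn (K := Y)
  -- make `α` fix `U`
  obtain ⟨S, hS⟩ := exists_syl R hG
  obtain ⟨g, hg⟩ := MulAction.exists_smul_eq Y (α • S) S
  have hU : Fix (MulAut.conj g * α) (RGD.Sup X (RGD.Pos cs h)) := by
    rw [fix_iff, ← hS]
    have h1 := congrArg (fun P : Sylow p Y => (P : Subgroup Y)) hg
    have h2 : ((g • (α • S) : Sylow p Y) : Subgroup Y) =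
        ((S : Subgroup Y)).map (MulAut.conj g * α).toMonoidHom := by
      ext x
      constructor
      · rintro ⟨_, ⟨y, hy, rfl⟩, rfl⟩
        exact ⟨y, hy, rfl⟩
      · rintro ⟨y, hy, rfl⟩
        exact ⟨_, ⟨y, hy, rfl⟩, rfl⟩
    rw [← h2]; exact h1
  obtain ⟨u, hu, hU', -, hUN, -, -⟩ := exists_frame R hG hU
  obtain ⟨σ, D⟩ := exists_diag R hG hU' hUN
  set β := MulAut.conj u * (MulAut.conj g * α) with hβ
  have hσ : σ ^ m = 1 := hM σ fun i j => Diag.matrix R D i j
  have D' : Diag T X (β ^ m) 1 := by rw [← hσ]; exact D.pow m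
  have D'' : Diag T X ((β ^ m) ^ c) 1 := by
    have := D'.pow c
    rwa [one_pow] at this
  have h1 : (β ^ m) ^ c = 1 := by
    apply Diag.eq_one R hG1 D''
    intro i x hx
    exact hcard i (β ^ m) (fun x => D'.pos i x) x hx
  -- modulo inner automorphisms
  have h2 : ((α : MulAut Y) : MulAut Y ⧸ (MulAut.conj : Y →* MulAut Y).range) = (β : MulAut Y) := by
    have e1 : ∀ y : Y, ((MulAut.conj y : MulAut Y) : MulAut Y ⧸ (MulAut.conj : Y →* MulAut Y).range) = 1 :=
      fun y => (QuotientGroup.eq_one_iff _).2 (MonoidHom.mem_range.2 ⟨y, rfl⟩)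
    rw [hβ, QuotientGroup.mk_mul, QuotientGroup.mk_mul, e1, e1, one_mul, one_mul]
  rw [← QuotientGroup.eq_one_iff, QuotientGroup.mk_pow, h2, ← QuotientGroup.mk_pow, pow_mul, h1,
    QuotientGroup.mk_one]

end rgd

section chev

open Cfsg.Lie Cfsg.Agent.Nodes.RGDChev Cfsg.Agent.ChevalleyStructure Cfsg.Agent.ChevalleyStructure.Elts
  CoxeterSystem Cfsg.Agent.ChevalleyStructure.CoxeterGeom Cfsg.Agent.Tits.Roots Cfsg.Agent.Tits.Core
  Cfsg.Agent.Nodes.Reps Cfsg.Agent.KFacts.RgdEx NoThreeE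

universe u

/-- an automorphism of a subset `{1, a, a²}` squares to the identity on it -/
theorem sq_fix {Y : Type*} [Group Y] {a : Y} (ha : a * a * a = 1) {P : Y → Prop}
    (hP : ∀ x, P x → x = 1 ∨ x = a ∨ x = a * a) (γ : MulAut Y) (hγ : ∀ x, P (γ x) ↔ P x) :
    ∀ x, P x → (γ ^ 2) x = x := by
  intro x hx
  have hinv : a⁻¹ = a * a := (eq_inv_of_mul_eq_one_left ha).symm
  have hx3 : x * x * x = 1 := by
    rcases hP x hx with rfl | rfl | rfl
    · simp
    · exact ha
    · calc a * a * (a * a) * (a * a) = (a * a * a) * (a * a * a) := by group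
        _ = 1 := by rw [ha, one_mul]
  by_cases hx1 : x = 1
  · rw [hx1, map_one]
  have h2 : ∀ y, P y → y = 1 ∨ y = x ∨ y = x * x := by
    intro y hy
    rcases hP x hx with h | h | h
    · exact absurd h hx1
    · rw [h]; exact hP y hy
    · rcases hP y hy with h3 | h3 | h3
      · exact Or.inl h3
      · right; right
        rw [h, h3]
        calc a = (a * a * a) * a := by rw [ha, one_mul]
          _ = a * a * (a * a) := by group
      · right; left
        rw [h, h3]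
  have h3 : γ x = x ∨ γ x = x * x := by
    rcases h2 (γ x) ((hγ x).2 hx) with h | h | h
    · exact absurd (γ.injective (h.trans (map_one γ).symm)) hx1
    · exact Or.inl h
    · exact Or.inr h
  rw [pow_two, MulAut.mul_apply]
  rcases h3 with h | h
  · rw [h, h]
  · rw [h, map_mul, h]
    calc x * x * (x * x) = (x * x * x) * x := by group
      _ = x := by rw [hx3, one_mul]

variable {D : ChevalleyDatum} {l : ℕ} {M : CoxeterMatrix (Fin l)} {F : Type u} [Field F] [Fintype F]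

/-- the Chevalley groups over the field with three elements -/
theorem chev (hp : IsType D l M) (hF : Fintype.card F = 3)
    (hM : ∀ σ : Equiv.Perm (Fin l), (∀ i j, M (σ i) (σ j) = M i j) → σ ^ 2 = 1) : NoThree ↥(D.group F) := by
  have h3 : Fact (Nat.Prime 3) := ⟨Nat.prime_three⟩
  have hc : CharP F 3 := charP_of_card_eq_prime_pow (f := 1) (by rw [hF, pow_one])
  have hfin := finite_W hp M.toCoxeterSystem
  classical
  have h012 : ∀ t : F, t = 0 ∨ t = 1 ∨ t = 1 + 1 := by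
    intro t
    by_contra hcon
    push Not at hcon
    have h12 : (1 : F) ≠ 1 + 1 := fun h => one_ne_zero (left_eq_add.mp h)
    have h02 : (0 : F) ≠ 1 + 1 := by
      intro h
      have h5 : ((2 : ℕ) : F) = 0 := by rw [Nat.cast_two, ← one_add_one_eq_two]; exact h.symm
      have h6 := (CharP.cast_eq_zero_iff F 3 2).1 h5
      exact absurd h6 (by norm_num)
    have h4 : ({0, 1, 1 + 1, t} : Finset F).card = 4 := by
      rw [Finset.card_insert_of_notMem, Finset.card_insert_of_notMem, Finset.card_insert_of_notMem,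
        Finset.card_singleton]
      · rw [Finset.mem_singleton]; exact fun h => hcon.2.2 h.symm
      · rw [Finset.mem_insert, Finset.mem_singleton]
        push Not
        exact ⟨h12, fun h => hcon.2.1 h.symm⟩
      · rw [Finset.mem_insert, Finset.mem_insert, Finset.mem_singleton]
        push Not
        exact ⟨zero_ne_one, h02, fun h => hcon.1 h.symm⟩
    have h5 := Finset.card_le_univ ({0, 1, 1 + 1, t} : Finset F)
    omega
  refine noThree_of_pow (m := 2 * 2) (by norm_num) fun α =>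
    exists_pow_inn (rgd (K := F) hp M.toCoxeterSystem 3) (G1_eq_top hp M.toCoxeterSystem) (c := 2) ?_ hM α
  intro i γ hγ
  let a : ↥(D.group F) := ⟨xG hp.inList (D.simple i) 1, xG_mem_group hp.inList _ _⟩
  have ha : a * a * a = 1 := by
    apply Subtype.ext
    show xG hp.inList (D.simple i) (1 : F) * xG hp.inList (D.simple i) 1 * xG hp.inList (D.simple i) 1 = 1
    rw [xG_add, xG_add]
    have h5 : (1 : F) + 1 + 1 = 0 := by
      have h6 := (CharP.cast_eq_zero_iff F 3 3).2 dvd_rfl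
      rw [← h6]
      push_cast
      norm_num
    rw [h5, xG_zero]
  refine sq_fix (a := a) ha (P := fun x => x ∈ (XV D l F (sr i)).subgroupOf (D.group F)) ?_ γ hγ
  intro x hx
  have hx' : x ∈ (XV D l F (sr i)).subgroupOf (D.group F) := hx
  rw [Subgroup.mem_subgroupOf, XV_sr hp, mem_rootSubgroup_iff hp.inList] at hx'
  obtain ⟨t, ht⟩ := hx'
  rcases h012 t with rfl | rfl | rfl
  · left
    apply Subtype.ext
    rw [ht, xG_zero]
    rfl
  · right; left
    exact Subtype.ext ht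
  · right; right
    apply Subtype.ext
    rw [ht, ← xG_add]
    rfl

theorem sym_G2 (σ : Equiv.Perm (Fin 2)) (_ : ∀ i j, CoxeterMatrix.G₂ (σ i) (σ j) = CoxeterMatrix.G₂ i j) :
    σ ^ 2 = 1 := by
  have h : ∀ σ : Equiv.Perm (Fin 2), σ ^ 2 = 1 := by decide
  exact h σ

/-- **`G₂(3)`** -/
theorem g2 (hF : Fintype.card F = 3) {K : Type*} [Group K] (e : K ≃* ↥(chevG2.group F)) : NoThree K :=
  noThree_of_equiv e (chev (M := CoxeterMatrix.G₂) (by simp [IsType, typeList]) hF fun σ hσ => sym_G2 σ hσ)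

end chev

end Cfsg.Agent.OddHalf.Quat.NoThreeOdd

end

-- merged: Cfsg.Agent.OddHalf.Quat.RowRee
section

/-!
# Node Q: simple groups with elementary abelian Sylow 2-subgroups of order 8; the Ree groups

`kBig_eight` : `K` simple, `U` an elementary abelian Sylow 2-subgroup of `K` of order 8: `KBig U`.
`ree` : the row `²G₂(q)`.
-/

set_option autoImplicit false

namespace Cfsg.Agent.OddHalf.Quat.RowRee

open Subgroup Cfsg Cfsg.Agent.StdL2.G23Aut

/-- an automorphism of 2-power order which normalises `U` centralises `U` -/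
theorem fix_of_two {K : Type*} [Group K] [Finite K] [IsSimpleGroup K] (hna : ∃ a b : K, a * b ≠ b * a)
    (U : Sylow 2 K) (h8 : Nat.card U = 8) (hsq : ∀ x ∈ U, x * x = 1) (α : MulAut K)
    (hα : IsPGroup 2 (zpowers α)) (hU : ∀ u ∈ (U : Subgroup K), α u ∈ (U : Subgroup K)) :
    ∀ u ∈ (U : Subgroup K), α u = u := by
  have hfin : Finite (MulAut K) := Finite.of_injective (fun e : MulAut K => (e : K → K)) DFunLike.coe_injective
  have hcen : center K = ⊥ := by
    rcases (inferInstance : (center K).Normal).eq_bot_or_eq_top with h1 | h1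
    · exact h1
    · exfalso
      obtain ⟨a, b, hab⟩ := hna
      exact hab (mem_center_iff.1 (by rw [h1]; trivial : b ∈ center K) a)
  have hinj : Function.Injective (MulAut.conj (G := K)) := by
    rw [injective_iff_map_eq_one]
    intro x hx
    have h1 : x ∈ center K := by
      rw [mem_center_iff]
      intro y
      have h2 := DFunLike.congr_fun hx y
      rw [MulAut.conj_apply, MulAut.one_apply, mul_inv_eq_iff_eq_mul] at h2
      exact h2.symm
    rwa [hcen, mem_bot] at h1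
  have hconj : ∀ (φ : MulAut K) (x : K), φ * MulAut.conj x * φ⁻¹ = MulAut.conj (φ x) := by
    intro φ x
    ext y
    simp only [MulAut.mul_apply, MulAut.conj_apply, _root_.MulAut.mul_apply, _root_.MulAut.inv_apply, _root_.MulAut.conj_apply, _root_.map_mul, _root_.MulEquiv.apply_symm_apply, _root_.map_inv]
  let I : Subgroup (MulAut K) := (MulAut.conj : K →* MulAut K).range
  let V : Subgroup (MulAut K) := (U : Subgroup K).map MulAut.conj
  let e : K ≃* I := MonoidHom.ofInjective hinj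
  have hVI : V ≤ I := by
    rintro _ ⟨u, -, rfl⟩
    exact ⟨u, rfl⟩
  have hI : I.Normal := by
    refine ⟨?_⟩
    rintro _ ⟨m, rfl⟩ g
    exact ⟨g m, (hconj g m).symm⟩
  have L : EightTorus.Auto.Loc I V (1 : MulAut K) := by
    refine ⟨?_, ?_, hVI, ?_, ⟨?_, ?_⟩, fun x _ => by rw [mul_one, one_mul], fun g _ => ?_⟩
    · haveI : Nontrivial I := e.symm.toEquiv.nontrivial
      exact IsSimpleGroup.isSimpleGroup_of_surjective e.toMonoidHom e.surjective
    · obtain ⟨a, b, hab⟩ := hna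
      refine ⟨MulAut.conj a, ⟨a, rfl⟩, MulAut.conj b, ⟨b, rfl⟩, fun h => hab (hinj ?_)⟩
      rw [map_mul, map_mul, h]
    · have h1 : V.relIndex I = (U : Subgroup K).index := by
        have h2 : I = (⊤ : Subgroup K).map MulAut.conj := by
          rw [← MonoidHom.range_eq_map]
        rw [h2, relIndex_map_map_of_injective _ _ hinj, relIndex_top_right]
      rw [h1]
      exact U.not_dvd_index
    · rw [card_map_of_injective hinj]
      exact h8
    · rintro _ ⟨u, hu, rfl⟩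
      rw [← map_mul, hsq u hu, map_one]
    · rw [normalizer_eq_top]
      trivial
  obtain ⟨d, -, -, -, hP⟩ := L.main
  have hUn : ∀ n : ℕ, ∀ u ∈ (U : Subgroup K), (α ^ n) u ∈ (U : Subgroup K) := by
    intro n
    induction n with
    | zero => intro u hu; simpa using hu
    | succ n ih =>
      intro u hu
      rw [pow_succ, MulAut.mul_apply]
      exact ih _ (hU u hu)
  have hz : zpowers α ≤ normalizer (V : Set (MulAut K)) := by
    rw [zpowers_le]
    have h1 : ∀ β ∈ zpowers α, ∀ v ∈ V, β * v * β⁻¹ ∈ V := by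
      intro β hβ
      obtain ⟨n, rfl⟩ := (mem_powers_iff_mem_zpowers (x := α) (y := β)).2 hβ
      rintro _ ⟨u, hu, rfl⟩
      exact ⟨(α ^ n) u, hUn n u hu, (hconj (α ^ n) u).symm⟩
    rw [mem_normalizer_iff]
    intro x
    refine ⟨h1 α (mem_zpowers α) x, fun hx => ?_⟩
    have h2 := h1 α⁻¹ (inv_mem (mem_zpowers α)) _ hx
    have h3 : α⁻¹ * (α * x * α⁻¹) * α⁻¹⁻¹ = x := by group
    rwa [h3] at h2
  intro u hu
  have h1 := hP (zpowers α) hα (fun x _ => by rw [mul_one, one_mul]) hz α (mem_zpowers α) (MulAut.conj u)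
    ⟨u, hu, rfl⟩
  apply hinj
  rw [← hconj, h1, mul_inv_cancel_right]

/-- **simple groups with elementary abelian Sylow 2-subgroups of order 8** -/
theorem kBig_eight {K : Type*} [Group K] [Finite K] [IsSimpleGroup K] (hna : ∃ a b : K, a * b ≠ b * a)
    (U : Sylow 2 K) (h8 : Nat.card U = 8) (hsq : ∀ x ∈ U, x * x = 1) : KBig (U : Subgroup K) := by
  have hab : ∀ x ∈ (U : Subgroup K), ∀ y ∈ (U : Subgroup K), x * y = y * x := by
    intro x hx y hy
    have h1 := hsq x hx
    have h2 := hsq y hy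
    have h3 := hsq (x * y) (mul_mem hx hy)
    calc x * y = (x * y)⁻¹ := eq_inv_of_mul_eq_one_left h3
      _ = y⁻¹ * x⁻¹ := mul_inv_rev x y
      _ = y * x := by rw [← eq_inv_of_mul_eq_one_left h1, ← eq_inv_of_mul_eq_one_left h2]
  refine ⟨?_, ?_⟩
  · intro w hw hw1
    by_contra hcon
    push Not at hcon
    apply hw1
    refine EightTorus.Auto.fixed_eq_one hna U hab hw.1 hw.2.1 fun n hn => ?_
    rw [hcon n hn, mul_inv_cancel_right]
  · intro α hα hU ⟨x, hx, hxα⟩
    exact absurd (fix_of_two hna U h8 hsq α hα hU x hx.1) hxα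

/-- **Row `²G₂(q)`** -/
theorem ree {K : Type*} [Group K] (h : Lie.IsoRee K) : ∃ U : Sylow 2 K, KBig (U : Subgroup K) := by
  obtain ⟨F, _, _, m, hm, hF, ⟨e⟩⟩ := h
  obtain ⟨a, haH, ha1, ha2⟩ := Cfsg.Agent.S1157.exists_involution hF
  obtain ⟨-, hS⟩ := Cfsg.Agent.S1152.result hF a haH ha1 ha2
  obtain ⟨Q⟩ : Nonempty (Sylow 2 ↥(Cfsg.Lie.twistedG2 F (3 ^ m))) := inferInstance
  have h1 := Cfsg.Agent.S1073.result hm hF
  have := h1.1
  refine exists_kbig_of_equiv e.symm ⟨Q, kBig_eight ?_ Q (hS Q).1 (hS Q).2⟩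
  by_contra hcon
  push Not at hcon
  exact h1.2 ⟨⟨hcon⟩⟩

end Cfsg.Agent.OddHalf.Quat.RowRee

end

-- merged: Cfsg.Agent.OddHalf.Quat.KZ
section

/-!
# Node Q: the fact `KZ` for `L₂(q)`, `q` an odd cube

`kz (R : Cfsg.Agent.GH.L2Aut.Rep F L) (hs : Nat.card F = s ^ 3) : KZ L`.
-/

set_option autoImplicit false

namespace Cfsg.Agent.OddHalf.Quat.KZ

open Cfsg.Agent.GH.L2Aut Cfsg.Agent.Lib.SL2Mat Cfsg.Agent.Lib.AutSL2 Cfsg.Agent.Lib.AutSL2Out

/-! ### arithmetic -/

/-- `a² + a + 1` has a prime divisor `≥ 5` -/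
theorem exists_prime {a : ℕ} (ha : 2 ≤ a) : ∃ r, r.Prime ∧ 5 ≤ r ∧ r ∣ a ^ 2 + a + 1 := by
  by_contra hcon
  push Not at hcon
  have h2 : ¬ 2 ∣ a ^ 2 + a + 1 := by
    intro h
    have h1 : (a ^ 2 + a + 1) % 2 = 1 := by
      rcases Nat.even_or_odd' a with ⟨k, rfl | rfl⟩ <;> ring_nf <;> omega
    omega
  have h9 : ¬ 9 ∣ a ^ 2 + a + 1 := by
    intro h
    have h1 : (a ^ 2 + a + 1) % 9 = ((a % 9) ^ 2 + a % 9 + 1) % 9 := by
      simp only [Nat.add_mod, Nat.pow_mod, _root_.Nat.add_mod, _root_.Nat.pow_mod, _root_.dvd_refl, _root_.Nat.mod_mod_of_dvd, _root_.Nat.one_mod]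
    have h3 : a % 9 < 9 := Nat.mod_lt _ (by norm_num)
    have h4 : (a ^ 2 + a + 1) % 9 = 0 := Nat.mod_eq_zero_of_dvd h
    rw [h1] at h4
    interval_cases (a % 9) <;> (clear * - h h1; omega)
  have h3 : ∀ p, p.Prime → p ∣ a ^ 2 + a + 1 → p = 3 := by
    intro p hp hd
    by_contra h3
    rcases Nat.lt_or_ge p 5 with h | h
    · have := hp.two_le
      interval_cases p
      · exact h2 hd
      · exact h3 rfl
      · exact absurd hp (by norm_num)
    · exact hcon p hp h hd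
  have hne : a ^ 2 + a + 1 ≠ 1 := by linarith only [ha, _root_.sq_nonneg (↑a : ℤ)]
  have hpow : a ^ 2 + a + 1 = 3 ^ (a ^ 2 + a + 1).primeFactorsList.length := by
    apply Nat.eq_prime_pow_of_unique_prime_dvd (by omega)
    intro d hd hd2
    exact h3 d hd hd2
  generalize hk : (a ^ 2 + a + 1).primeFactorsList.length = k at hpow
  rcases k with _ | _ | k
  · exact hne (by rw [hpow]; norm_num)
  · have : a ^ 2 + a + 1 = 3 := by rw [hpow]; norm_num
    nlinarith only [ha, this]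
  · apply h9
    rw [hpow]
    exact ⟨3 ^ k, by ring⟩

/-! ### no `Q₈` fixes the element -/

section

variable {F : Type*} [Field F] [Finite F]

/-- field automorphisms commute -/
theorem fieldAut_comm (σ τ : F ≃+* F) : σ * τ = τ * σ := by
  obtain ⟨g, hg⟩ := IsCyclic.exists_generator (α := Fˣ)
  have key : ∀ σ : F ≃+* F, ∃ m : ℤ, ∀ u : Fˣ, σ u = ((u ^ m : Fˣ) : F) := by
    intro σ
    obtain ⟨m, hm⟩ := Subgroup.mem_zpowers_iff.1 (hg (Units.map (σ : F →* F) g))
    refine ⟨m, fun u => ?_⟩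
    obtain ⟨k, rfl⟩ := Subgroup.mem_zpowers_iff.1 (hg u)
    have h1 : Units.map (σ : F →* F) (g ^ k) = (g ^ k) ^ m := by
      rw [map_zpow, ← hm, ← zpow_mul, ← zpow_mul, mul_comm]
    exact congrArg Units.val h1
  obtain ⟨m, hm⟩ := key σ
  apply RingEquiv.ext
  intro x
  change σ (τ x) = τ (σ x)
  by_cases hx : x = 0
  · rw [hx, map_zero, map_zero, map_zero]
  obtain ⟨u, rfl⟩ : ∃ u : Fˣ, (u : F) = x := ⟨Units.mk0 x hx, rfl⟩
  have h1 : τ (u : F) = (Units.map (τ : F →* F) u : Fˣ) := rfl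
  rw [h1, hm, hm]
  have h2 : Units.map (τ : F →* F) (u ^ m) = (Units.map (τ : F →* F) u) ^ m := map_zpow _ _ _
  rw [← h2]
  rfl

theorem q8_sq (u : QuaternionGroup 2) : u * u = 1 ∨ u * u = QuaternionGroup.a 2 := by
  revert u; decide

variable {L : Type*} [Group L] (R : Cfsg.Agent.GH.L2Aut.Rep F L)

local notation "SL2" => Matrix.SpecialLinearGroup (Fin 2) F
local notation "M2" => Matrix (Fin 2) (Fin 2) F

theorem no_q8 {t : SL2} (hn : ∀ c : F, t.1 ≠ c • (1 : M2)) (htr : t.1.trace ≠ 0)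
    (hσ : ∀ σ : F ≃+* F, σ * σ = 1 → σ ≠ 1 → σ t.1.trace ≠ t.1.trace ∧ σ t.1.trace ≠ -t.1.trace)
    (Q : Subgroup (MulAut L)) (hQ : ∀ α ∈ Q, α (R.π t) = R.π t) : ¬ Nonempty (Q ≃* QuaternionGroup 2) := by
  rintro ⟨e⟩
  let φ : QuaternionGroup 2 →* (F ≃+* F) := (R.fld.comp Q.subtype).comp e.symm.toMonoidHom
  have h2 : φ (QuaternionGroup.a 2) = 1 := by
    have e1 : (QuaternionGroup.a 2 : QuaternionGroup 2) * QuaternionGroup.xa 1 =
        QuaternionGroup.a 1 * QuaternionGroup.xa 0 := by decide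
    have e2 : (QuaternionGroup.xa 0 : QuaternionGroup 2) * QuaternionGroup.a 1 = QuaternionGroup.xa 1 := by decide
    have e3 := congrArg φ e1
    rw [map_mul, map_mul, fieldAut_comm (φ (QuaternionGroup.a 1)), ← map_mul φ (QuaternionGroup.xa 0), e2] at e3
    exact mul_eq_right.1 e3
  have hsq : ∀ α ∈ Q, R.fld α * R.fld α = 1 := by
    intro α hα
    have e1 : R.fld α = φ (e ⟨α, hα⟩) := by
      change _ = R.fld ((e.symm (e ⟨α, hα⟩) : Q) : MulAut L)
      rw [MulEquiv.symm_apply_apply]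
    rw [e1, ← map_mul]
    rcases q8_sq (e ⟨α, hα⟩) with h | h <;> rw [h]
    · exact map_one _
    · exact h2
  have hPGL : ∀ α ∈ Q, ∃ g : GL (Fin 2) F, α = R.gl g := by
    intro α hα
    rw [← R.mem_PGL, R.mem_PGL_iff_fld]
    by_contra h1
    obtain ⟨h3, h4⟩ := hσ _ (hsq α hα) h1
    obtain ⟨g, hg⟩ := R.exists_eq α
    have h5 := hQ α hα
    rw [hg, MulAut.mul_apply, R.fa_apply, R.gl_apply, R.π_eq_iff] at h5
    have h6 : Cfsg.Agent.Lib.PSL2Inv.tr (conjGL g (fieldAut (R.fld α) t)) = R.fld α t.1.trace := by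
      rw [Cfsg.Agent.Lib.PSL2Inv.tr_conjGL, Cfsg.Agent.Lib.PSL2Inv.tr_fieldAut, Cfsg.Agent.Lib.PSL2Inv.tr_eq]
    rcases h5 with h5 | h5
    · rw [h5, Cfsg.Agent.Lib.PSL2Inv.tr_eq] at h6
      exact h3 h6.symm
    · rw [h5, Cfsg.Agent.Lib.PSL2Inv.tr_eq] at h6
      apply h4
      rw [← h6]
      change (-t.1).trace = _
      rw [Matrix.trace_neg]
  have hc : ∀ g : GL (Fin 2) F, R.gl g (R.π t) = R.π t → t.1 * g.1 = g.1 * t.1 := by
    intro g hg
    have h1 : R.gl g * R.gl (Matrix.SpecialLinearGroup.toGL t) = R.gl (Matrix.SpecialLinearGroup.toGL t) * R.gl g := by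
      rw [← R.conj_π]
      apply MulEquiv.ext
      intro y
      rw [MulAut.mul_apply, MulAut.mul_apply, MulAut.conj_apply, MulAut.conj_apply, map_mul, map_mul, map_inv, hg]
    rcases R.comm_cases h1 with h2 | h2
    · exact h2.symm
    · exfalso
      apply htr
      refine tr_of_anticomm R.two (g := g) (h := Matrix.SpecialLinearGroup.toGL t) ?_
      rw [h2, neg_neg]
  have hcomm : ∀ α ∈ Q, ∀ β ∈ Q, α * β = β * α := by
    intro α hα β hβ
    obtain ⟨g, rfl⟩ := hPGL α hα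
    obtain ⟨h, rfl⟩ := hPGL β hβ
    obtain ⟨a, b, h1⟩ := exists_ab hn (hc g (hQ _ hα))
    obtain ⟨a', b', h2⟩ := exists_ab hn (hc h (hQ _ hβ))
    rw [← map_mul, ← map_mul]
    congr 1
    apply Units.ext
    rw [Units.val_mul, Units.val_mul, h1, h2]
    simp only [Matrix.add_mul, Matrix.mul_add, Matrix.smul_mul, Matrix.mul_smul, Matrix.one_mul, Matrix.mul_one]
    module
  have h3 := hcomm _ (e.symm (QuaternionGroup.a 1)).2 _ (e.symm (QuaternionGroup.xa 0)).2
  have h4 : e.symm (QuaternionGroup.a 1) * e.symm (QuaternionGroup.xa 0) =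
      e.symm (QuaternionGroup.xa 0) * e.symm (QuaternionGroup.a 1) := Subtype.ext h3
  rw [← map_mul, ← map_mul] at h4
  exact absurd (e.symm.injective h4) (by decide)

/-! ### elements of the torus -/

/-- the action of field involutions on `λ + λ⁻¹` -/
theorem hsig {l : Fˣ} (hl : Odd (orderOf l))
    (h1 : ∀ q : ℕ, q ^ 2 = Nat.card F → ¬ orderOf l ∣ q - 1 ∧ ¬ orderOf l ∣ q + 1) (σ : F ≃+* F)
    (h2 : σ * σ = 1) (h3 : σ ≠ 1) :
    σ ((l : F) + (l : F)⁻¹) ≠ (l : F) + (l : F)⁻¹ ∧ σ ((l : F) + (l : F)⁻¹) ≠ -((l : F) + (l : F)⁻¹) := by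
  classical
  obtain ⟨K, hK, hcard⟩ := exists_fixed_field σ
  have hord : orderOf σ = 2 := orderOf_eq_prime (by rw [pow_two]; exact h2) h3
  rw [hord] at hcard
  obtain ⟨h4, h5⟩ := h1 _ hcard.symm
  have := Fintype.ofFinite K
  have hl0 : (l : F) ≠ 0 := l.ne_zero
  have hl1 : (l : F) * (l : F)⁻¹ = 1 := mul_inv_cancel₀ hl0
  have hs0 : σ (l : F) ≠ 0 := by rwa [Ne, map_eq_zero_iff σ σ.injective]
  have hs1 : σ (l : F) * (σ (l : F))⁻¹ = 1 := mul_inv_cancel₀ hs0
  have hq1 : 1 ≤ Nat.card K := Nat.card_pos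
  -- `l²` cannot be fixed by a power map
  have k1 : ∀ a : F, a = (l : F) ^ 2 → a ^ (Nat.card K - 1) ≠ 1 := by
    intro a ha h
    apply h4
    have e : l ^ (2 * (Nat.card K - 1)) = 1 := by
      apply Units.ext
      rw [Units.val_pow_eq_pow_val, pow_mul, ← ha, h, Units.val_one]
    have e2 := orderOf_dvd_of_pow_eq_one e
    exact (Nat.Coprime.dvd_of_dvd_mul_left (Nat.Coprime.symm (Nat.coprime_two_left.2 hl)) e2)
  have k2 : ∀ a : F, a = (l : F) ^ 2 → a ^ (Nat.card K + 1) ≠ 1 := by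
    intro a ha h
    apply h5
    have e : l ^ (2 * (Nat.card K + 1)) = 1 := by
      apply Units.ext
      rw [Units.val_pow_eq_pow_val, pow_mul, ← ha, h, Units.val_one]
    have e2 := orderOf_dvd_of_pow_eq_one e
    exact (Nat.Coprime.dvd_of_dvd_mul_left (Nat.Coprime.symm (Nat.coprime_two_left.2 hl)) e2)
  have key : σ (l : F) ^ 2 ≠ (l : F) ^ 2 ∧ σ (l : F) ^ 2 * (l : F) ^ 2 ≠ 1 := by
    constructor
    · intro h
      have hm : (l : F) ^ 2 ∈ K := by
        rw [hK, map_pow]; exact h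
      apply k1 _ rfl
      have e1 := FiniteField.pow_card_sub_one_eq_one (⟨(l : F) ^ 2, hm⟩ : K) (by
        intro h0
        have := congrArg Subtype.val h0
        exact hl0 (pow_eq_zero_iff (two_ne_zero) |>.1 this))
      rw [Nat.card_eq_fintype_card]
      exact congrArg Subtype.val e1
    · intro h
      set a : F := (l : F) ^ 2 with ha
      have ha0 : a ≠ 0 := pow_ne_zero _ hl0
      have haa : a * a⁻¹ = 1 := mul_inv_cancel₀ ha0
      have hσa : σ a = a⁻¹ := by
        rw [ha, map_pow]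
        exact eq_inv_of_mul_eq_one_left h
      have hb : a + a⁻¹ ∈ K := by
        rw [hK, map_add, map_inv₀, hσa, inv_inv, add_comm]
      have e1 : (a + a⁻¹) ^ Nat.card K = a + a⁻¹ := by
        have e2 := FiniteField.pow_card (⟨a + a⁻¹, hb⟩ : K)
        rw [Nat.card_eq_fintype_card]
        exact congrArg Subtype.val e2
      have e2 : (a + a⁻¹) ^ Nat.card K = a ^ Nat.card K + (a⁻¹) ^ Nat.card K := by
        have e3 := map_add (FiniteField.frobeniusAlgHom K F) a a⁻¹
        rw [Nat.card_eq_fintype_card]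
        exact e3
      rw [e2, inv_pow] at e1
      have hp0 : a ^ Nat.card K ≠ 0 := pow_ne_zero _ ha0
      have hpp : a ^ Nat.card K * (a ^ Nat.card K)⁻¹ = 1 := mul_inv_cancel₀ hp0
      have e3 : (a ^ Nat.card K - a) * (a ^ Nat.card K - a⁻¹) = 0 := by
        linear_combination (a ^ Nat.card K) * e1 - hpp + haa
      rcases mul_eq_zero.1 e3 with e4 | e4
      · apply k1 _ ha
        have e5 : a ^ Nat.card K = a := sub_eq_zero.1 e4
        have e6 : a ^ (Nat.card K - 1) * a = 1 * a := by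
          rw [← pow_succ, Nat.sub_add_cancel hq1, e5, one_mul]
        exact mul_right_cancel₀ ha0 e6
      · apply k2 _ ha
        rw [pow_succ, sub_eq_zero.1 e4, inv_mul_cancel₀ ha0]
  obtain ⟨k3, k4⟩ := key
  rw [map_add, map_inv₀]
  constructor
  · intro h
    have e : (σ (l : F) - l) * (σ (l : F) - (l : F)⁻¹) = 0 := by
      linear_combination (σ (l : F)) * h - hs1 + hl1
    rcases mul_eq_zero.1 e with e | e
    · exact k3 (by rw [sub_eq_zero.1 e])
    · exact k4 (by rw [sub_eq_zero.1 e, ← mul_pow, inv_mul_cancel₀ hl0, one_pow])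
  · intro h
    have e : (σ (l : F) + l) * (σ (l : F) + (l : F)⁻¹) = 0 := by
      linear_combination (σ (l : F)) * h - hs1 + hl1
    rcases mul_eq_zero.1 e with e | e
    · exact k3 (by rw [eq_neg_of_add_eq_zero_left e, neg_sq])
    · exact k4 (by rw [eq_neg_of_add_eq_zero_left e, neg_sq, ← mul_pow, inv_mul_cancel₀ hl0, one_pow])

omit [Finite F] in
/-- elements of odd order `≠ 1` of `SL(2,F)` are not scalar and have nonzero trace -/
theorem odd_facts (h2 : (2 : F) ≠ 0) {t : SL2} {r : ℕ} (hr : Odd r) (ht : t ^ r = 1) (ht1 : t ≠ 1) :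
    (∀ c : F, t.1 ≠ c • (1 : M2)) ∧ t.1.trace ≠ 0 := by
  have ho : Odd (orderOf t) := hr.of_dvd_nat (orderOf_dvd_of_pow_eq_one ht)
  constructor
  · intro c hc
    have h3 : t ∈ Subgroup.center SL2 := by
      rw [Subgroup.mem_center_iff]
      intro y
      apply Subtype.ext
      change y.1 * t.1 = t.1 * y.1
      rw [hc, Matrix.mul_smul, Matrix.smul_mul, Matrix.mul_one, Matrix.one_mul]
    rcases (mem_center_iff h2 t).1 h3 with h | h
    · exact ht1 h
    · apply ht1
      have h4 : orderOf t ∣ 2 := orderOf_dvd_of_pow_eq_one (by rw [h, pow_two, neg_mul_neg, mul_one])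
      have h5 : orderOf t = 1 := by
        rcases (Nat.dvd_prime Nat.prime_two).1 h4 with h5 | h5
        · exact h5
        · rw [h5] at ho; exact absurd ho (by decide)
      exact orderOf_eq_one_iff.1 h5
  · intro h
    have h3 := cayley t.1
    have hd : t.1.det = 1 := t.2
    rw [h, zero_smul, zero_sub, hd, one_smul] at h3
    have h4 : t * t = -1 := Subtype.ext h3
    have h5 : t ^ 4 = 1 := by
      calc t ^ 4 = (t * t) * (t * t) := by rw [← pow_two, ← pow_two, ← pow_mul]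
        _ = 1 := by rw [h4, neg_mul_neg, mul_one]
    have h6 : orderOf t ∣ 2 ^ 2 := orderOf_dvd_of_pow_eq_one h5
    have h7 : orderOf t = 1 := Nat.eq_one_of_dvd_coprimes (Nat.Coprime.pow_right 2 ho.coprime_two_right)
      dvd_rfl h6
    exact ht1 (orderOf_eq_one_iff.1 h7)

omit [Finite F] in
theorem dg_pow (b : F) (hb : b ≠ 0) (n : ℕ) : dg b hb ^ n = dg (b ^ n) (pow_ne_zero n hb) := by
  induction n with
  | zero => apply ext_ent <;> simp
  | succ n ih =>
    rw [pow_succ, ih]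
    apply ext_ent <;> simp only [ent_mul, pow_succ, _root_.Fin.isValue, _root_.Cfsg.Agent.Lib.SL2Mat.ent_mul, _root_.Cfsg.Agent.Lib.SL2Mat.dg_00, _root_.Cfsg.Agent.Lib.SL2Mat.dg_01, _root_.Cfsg.Agent.Lib.SL2Mat.dg_10, _root_.MulZeroClass.mul_zero, _root_.add_zero, _root_.pow_succ, _root_.Cfsg.Agent.Lib.SL2Mat.dg_11, _root_.MulZeroClass.zero_mul, _root_.zero_add, _root_.mul_inv_rev]
    field_simp

/-- **the split torus**: an element commuting with `i` -/
theorem exists_split (R : Cfsg.Agent.GH.L2Aut.Rep F L) {i : SL2} (hi : i.1 * i.1 = -1) {u : F} (hu : u * u = -1)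
    (l : Fˣ) (hl1 : l ≠ 1) : ∃ t : SL2, t * i = i * t ∧ t ^ orderOf l = 1 ∧ t ≠ 1 ∧ t.1.trace = (l : F) + (l : F)⁻¹ := by
  have hu0 : u ≠ 0 := by
    rintro rfl
    rw [mul_zero, eq_comm, neg_eq_zero] at hu
    exact one_ne_zero hu
  have hu2 : u⁻¹ = -u := inv_eq_of_mul_eq_one_right (by rw [mul_neg, hu, neg_neg])
  set w : SL2 := dg u hu0 with hw
  have hww : w * w = -1 := by
    have n00 : ent (-1 : SL2) 0 0 = -1 := by simp [ent]
    have n01 : ent (-1 : SL2) 0 1 = 0 := by simp [ent]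
    have n10 : ent (-1 : SL2) 1 0 = 0 := by simp [ent]
    have n11 : ent (-1 : SL2) 1 1 = -1 := by simp [ent]
    apply ext_ent
    · rw [ent_mul, hw, n00, dg_00, dg_01, hu, zero_mul, add_zero]
    · rw [ent_mul, hw, n01, dg_01, zero_mul, mul_zero, add_zero]
    · rw [ent_mul, hw, n10, dg_10, zero_mul, mul_zero, add_zero]
    · rw [ent_mul, hw, n11, dg_10, dg_11, hu2, neg_mul_neg, hu, zero_mul, zero_add]
  have hpi : ∀ y : SL2, y * y = -1 → R.π y * R.π y = 1 ∧ R.π y ≠ 1 := by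
    intro y hy
    constructor
    · rw [← map_mul, hy, R.ker]; exact Or.inr rfl
    · intro h
      have h3 : y * y = 1 := by
        rcases (R.ker y).1 h with h | h <;> rw [h]
        · rw [mul_one]
        · rw [neg_mul_neg, mul_one]
      exact R.neg_one_ne_one (hy.symm.trans h3)
  obtain ⟨h1, h2⟩ := hpi w hww
  obtain ⟨h3, h4⟩ := hpi i (Subtype.ext hi)
  obtain ⟨g, hg⟩ := R.inv_conj h1 h2 h3 h4
  obtain ⟨s, rfl⟩ := R.surj g
  rw [← map_inv, ← map_mul, ← map_mul, R.π_eq_iff] at hg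
  set d : SL2 := dg (l : F) l.ne_zero with hd
  have hdw : d * w = w * d := by
    apply ext_ent <;> rw [ent_mul, ent_mul, hd, hw] <;> simp only [mul_comm, _root_.Fin.isValue, _root_.Cfsg.Agent.Lib.SL2Mat.dg_00, _root_.mul_comm, _root_.Cfsg.Agent.Lib.SL2Mat.dg_01, _root_.Cfsg.Agent.Lib.SL2Mat.dg_10, _root_.MulZeroClass.mul_zero, _root_.add_zero, _root_.Cfsg.Agent.Lib.SL2Mat.dg_11, _root_.zero_add]
  refine ⟨s * d * s⁻¹, ?_, ?_, ?_, ?_⟩
  · have e : (s * d * s⁻¹) * (s * w * s⁻¹) = (s * w * s⁻¹) * (s * d * s⁻¹) := by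
      calc (s * d * s⁻¹) * (s * w * s⁻¹) = s * (d * w) * s⁻¹ := by group
        _ = s * (w * d) * s⁻¹ := by rw [hdw]
        _ = _ := by group
    rcases hg with hg | hg
    · rwa [hg] at e
    · rw [hg, mul_neg, neg_mul, neg_inj] at e
      exact e
  · rw [conj_pow, hd, dg_pow]
    have : (l : F) ^ orderOf l = 1 := by
      rw [← Units.val_pow_eq_pow_val, pow_orderOf_eq_one, Units.val_one]
    have e : dg ((l : F) ^ orderOf l) (pow_ne_zero _ l.ne_zero) = 1 := by
      apply ext_ent <;> simp [this]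
    rw [e, mul_one, mul_inv_cancel]
  · intro h
    have h5 : d = 1 := by
      calc d = s⁻¹ * (s * d * s⁻¹) * s := by group
        _ = 1 := by rw [h]; group
    apply hl1
    apply Units.ext
    have := congrArg (fun x => ent x 0 0) h5
    exact this
  · have h5 : (s * d * s⁻¹).1.trace = d.1.trace := by
      change (s.1 * d.1 * s⁻¹.1).trace = _
      rw [Matrix.trace_mul_comm, ← Matrix.mul_assoc]
      have h6 : s⁻¹.1 * s.1 = 1 := congrArg Subtype.val (inv_mul_cancel s)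
      rw [h6, Matrix.one_mul]
    rw [h5, Matrix.trace_fin_two]
    rfl

omit [Finite F] in
theorem det_ab {i : SL2} (hi : i.1 * i.1 = -1) (a b : F) :
    (a • (1 : M2) + b • i.1).det = a ^ 2 + b ^ 2 := by
  have h1 := tr_zero_of_sq hi
  have h2 : i.1.det = 1 := i.2
  rw [Matrix.trace_fin_two] at h1
  rw [Matrix.det_fin_two] at h2 ⊢
  simp only [_root_.Fin.isValue, _root_.Matrix.add_apply, _root_.Matrix.smul_apply, _root_.Matrix.one_apply_eq, _root_.smul_eq_mul, _root_.mul_one, _root_.ne_eq, _root_.zero_ne_one, _root_.not_false_eq_true, _root_.Matrix.one_apply_ne, _root_.MulZeroClass.mul_zero, _root_.zero_add, _root_.one_ne_zero]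
  linear_combination a * b * h1 + b ^ 2 * h2

/-- **the nonsplit torus** -/
theorem exists_nonsplit (hns : ¬ IsSquare (-1 : F)) {i : SL2} (hi : i.1 * i.1 = -1) {r : ℕ} (hr : r.Prime)
    (hr5 : 5 ≤ r) (hd : r ∣ Nat.card F + 1) : ∃ t : SL2, t * i = i * t ∧ t ^ r = 1 ∧ t ≠ 1 := by
  classical
  have : Fact r.Prime := ⟨hr⟩
  have hq : 1 ≤ Nat.card F := Nat.card_pos
  have hsc : ∀ c : F, i.1 ≠ c • (1 : M2) := by
    intro c hc
    apply hns
    have h1 := congrFun (congrFun hi 0) 0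
    rw [mat_mul, hc] at h1
    simp at h1
    exact ⟨c, h1.symm⟩
  let I : GL (Fin 2) F := Matrix.SpecialLinearGroup.toGL i
  let C : Subgroup (GL (Fin 2) F) := Subgroup.centralizer {I}
  have hne : ∀ p : F × F, p ≠ 0 → (p.1 • (1 : M2) + p.2 • i.1).det ≠ 0 := by
    rintro ⟨a, b⟩ hp h
    rw [det_ab hi] at h
    by_cases hb : b = 0
    · apply hp
      have ha : a = 0 := by
        have h' : a ^ 2 = 0 := by rw [← h]; change a ^ 2 = a ^ 2 + b ^ 2; rw [hb]; ring
        exact pow_eq_zero_iff two_ne_zero |>.1 h'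
      rw [ha, hb]; rfl
    · apply hns
      refine ⟨a / b, ?_⟩
      change a ^ 2 + b ^ 2 = 0 at h
      field_simp
      linear_combination -h
  let f : {p : F × F // p ≠ 0} → C := fun p =>
    ⟨toGL' _ (hne p.1 p.2), by
      rw [Subgroup.mem_centralizer_singleton_iff]
      apply Units.ext
      change (p.1.1 • (1 : M2) + p.1.2 • i.1) * i.1 = i.1 * (p.1.1 • (1 : M2) + p.1.2 • i.1)
      simp only [Matrix.add_mul, Matrix.mul_add, Matrix.smul_mul, Matrix.mul_smul, Matrix.one_mul, Matrix.mul_one]⟩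
  have hf : Function.Bijective f := by
    constructor
    · intro p p' h
      have h1 : p.1.1 • (1 : M2) + p.1.2 • i.1 = p'.1.1 • (1 : M2) + p'.1.2 • i.1 :=
        congrArg (fun x : C => x.1.1) h
      have h2 : p.1.2 = p'.1.2 := by
        by_contra hne2
        have h3 : p.1.2 - p'.1.2 ≠ 0 := sub_ne_zero.2 hne2
        apply hsc ((p'.1.1 - p.1.1) / (p.1.2 - p'.1.2))
        have h4 : (p.1.2 - p'.1.2) • i.1 = (p'.1.1 - p.1.1) • (1 : M2) := by
          rw [sub_smul, sub_smul, sub_eq_sub_iff_add_eq_add, add_comm (p.1.2 • i.1), h1]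
        rw [div_eq_inv_mul, mul_smul, ← h4, smul_smul, inv_mul_cancel₀ h3, one_smul]
      rw [h2, add_left_inj] at h1
      have h3 := congrFun (congrFun h1 0) 0
      simp at h3
      exact Subtype.ext (Prod.ext h3 h2)
    · rintro ⟨g, hg⟩
      rw [Subgroup.mem_centralizer_singleton_iff] at hg
      have h1 : i.1 * g.1 = g.1 * i.1 := (congrArg Units.val hg).symm
      obtain ⟨a, b, hab⟩ := exists_ab hsc h1
      refine ⟨⟨(a, b), ?_⟩, ?_⟩
      · intro h0
        have ha : a = 0 := congrArg Prod.fst h0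
        have hb : b = 0 := congrArg Prod.snd h0
        rw [ha, hb, zero_smul, zero_smul, add_zero] at hab
        have := (Matrix.GeneralLinearGroup.det g).ne_zero
        change g.1.det ≠ 0 at this
        rw [hab] at this
        exact this Matrix.det_zero
      · apply Subtype.ext
        apply Units.ext
        exact hab.symm
  have hcard : Nat.card C = Nat.card F ^ 2 - 1 := by
    rw [← Nat.card_congr (Equiv.ofBijective f hf)]
    have := Fintype.ofFinite F
    have h1 : Nat.card {p : F × F // p ≠ 0} = Fintype.card {p : F × F | p ≠ 0} := Nat.card_eq_fintype_card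
    rw [h1, Set.card_ne_eq, Fintype.card_prod, Nat.card_eq_fintype_card, pow_two]
  have hdvd : r ∣ Nat.card C := by
    rw [hcard]
    have e : Nat.card F ^ 2 - 1 = (Nat.card F + 1) * (Nat.card F - 1) := by
      rw [← Nat.sq_sub_sq, one_pow]
    rw [e]
    exact hd.mul_right _
  have : Finite C := Nat.finite_of_card_ne_zero (by
    intro h0
    rw [h0] at hcard
    have : 2 ≤ Nat.card F := Finite.one_lt_card
    have : 2 * 2 ≤ Nat.card F ^ 2 := by rw [pow_two]; exact Nat.mul_le_mul this this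
    omega)
  obtain ⟨u, hu⟩ := exists_prime_orderOf_dvd_card' r hdvd
  have hur : (u : GL (Fin 2) F) ^ r = 1 := by
    rw [← hu]
    exact congrArg Subtype.val (pow_orderOf_eq_one u)
  have hdet : Matrix.GeneralLinearGroup.det (u : GL (Fin 2) F) = 1 := by
    have h1 : (Matrix.GeneralLinearGroup.det (u : GL (Fin 2) F)) ^ r = 1 := by
      rw [← map_pow, hur, map_one]
    have h2 : orderOf (Matrix.GeneralLinearGroup.det (u : GL (Fin 2) F)) ∣ r := orderOf_dvd_of_pow_eq_one h1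
    have := Fintype.ofFinite F
    have h3 : orderOf (Matrix.GeneralLinearGroup.det (u : GL (Fin 2) F)) ∣ Nat.card F - 1 := by
      have := orderOf_dvd_card (x := Matrix.GeneralLinearGroup.det (u : GL (Fin 2) F))
      rwa [Fintype.card_units, ← Nat.card_eq_fintype_card] at this
    rcases (Nat.dvd_prime hr).1 h2 with h4 | h4
    · exact orderOf_eq_one_iff.1 h4
    · exfalso
      rw [h4] at h3
      have h5 : r ∣ 2 := by
        have e : Nat.card F + 1 = (Nat.card F - 1) + 2 := by omega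
        rw [e] at hd
        exact (Nat.dvd_add_right h3).1 hd
      have := Nat.le_of_dvd (by norm_num) h5
      omega
  have hdet' : u.1.1.det = 1 := congrArg Units.val hdet
  refine ⟨⟨u.1.1, hdet'⟩, ?_, ?_, ?_⟩
  · apply Subtype.ext
    have h1 := Subgroup.mem_centralizer_singleton_iff.1 u.2
    exact congrArg Units.val h1
  · apply Subtype.ext
    have h1 := congrArg Units.val hur
    rw [Units.val_pow_eq_pow_val] at h1
    exact (Matrix.SpecialLinearGroup.coe_pow (⟨u.1.1, hdet'⟩ : SL2) r).trans h1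
  · intro h
    have h1 : u.1.1 = 1 := congrArg Subtype.val h
    have h2 : u = 1 := Subtype.ext (Units.ext h1)
    rw [h2, orderOf_one] at hu
    exact hr.one_lt.ne hu

/-- `Fˣ` has elements of every order dividing `|F| - 1` -/
theorem exists_unit {r : ℕ} (h : r ∣ Nat.card F - 1) : ∃ l : Fˣ, orderOf l = r := by
  classical
  have := Fintype.ofFinite F
  have h2 : 2 ≤ Nat.card F := Finite.one_lt_card
  obtain ⟨g, hg⟩ := IsCyclic.exists_generator (α := Fˣ)
  have h3 : orderOf g = Nat.card F - 1 := by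
    rw [orderOf_eq_card_of_forall_mem_zpowers hg, Nat.card_eq_fintype_card, Fintype.card_units,
      Nat.card_eq_fintype_card]
  obtain ⟨k, hk⟩ := h
  have hk0 : k ≠ 0 := by rintro rfl; rw [mul_zero] at hk; omega
  refine ⟨g ^ k, ?_⟩
  rw [orderOf_pow_of_dvd hk0 (by rw [h3, hk]; exact Dvd.intro_left r rfl), h3, hk]
  exact Nat.mul_div_cancel _ (Nat.pos_of_ne_zero hk0)

theorem coprime_six {r : ℕ} (hr : r.Prime) (h5 : 5 ≤ r) : Nat.Coprime r 6 := by
  rw [Nat.Prime.coprime_iff_not_dvd hr]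
  intro h
  have := Nat.le_of_dvd (by norm_num) h
  interval_cases r
  · omega
  · exact absurd hr (by norm_num)

/-- the element of the split torus -/
theorem exists_l {s : ℕ} (hs : Nat.card F = s ^ 3) (hF : Odd (Nat.card F)) :
    ∃ l : Fˣ, Nat.Coprime (orderOf l) 6 ∧ l ≠ 1 ∧
      ∀ q : ℕ, q ^ 2 = Nat.card F → ¬ orderOf l ∣ q - 1 ∧ ¬ orderOf l ∣ q + 1 := by
  have h2 : 2 ≤ Nat.card F := Finite.one_lt_card
  have hso : Odd s := by
    by_contra h
    rw [Nat.not_odd_iff_even] at h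
    rw [hs] at hF
    exact (Nat.not_even_iff_odd.2 hF) (h.pow_of_ne_zero (by norm_num))
  have hs2 : s ≠ 1 := by rintro rfl; omega
  obtain ⟨s', hs'⟩ := hso
  by_cases hsq : ∃ q, q ^ 2 = Nat.card F
  · obtain ⟨q, hq⟩ := hsq
    obtain ⟨c, hc1, hc2⟩ := Nat.exists_eq_pow_of_exponent_coprime_of_pow_eq_pow (a := s) (b := q)
      (m := 3) (n := 2) (by norm_num) (by rw [hq, hs])
    -- `s = c ^ 2`, `q = c ^ 3`
    have hc3 : 3 ≤ c := by
      rcases Nat.lt_or_ge c 3 with h | h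
      · exfalso; interval_cases c <;> omega
      · exact h
    obtain ⟨d, rfl⟩ : ∃ d, c = d + 1 := ⟨c - 1, by omega⟩
    obtain ⟨r1, hr1, hr15, hr1d⟩ := exists_prime (a := d + 1) (by omega)
    obtain ⟨r2, hr2, hr25, hr2d⟩ := exists_prime (a := d) (by omega)
    have e1 : r1 ∣ q - 1 := by
      apply hr1d.trans
      refine ⟨d, ?_⟩
      rw [hc2]
      apply Nat.sub_eq_of_eq_add
      ring
    have e2 : r2 ∣ q + 1 := by
      apply hr2d.trans
      refine ⟨d + 2, ?_⟩
      rw [hc2]; ring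
    have hq1 : 1 ≤ q := by
      rw [hc2]; exact Nat.one_le_pow _ _ (by omega)
    have n1 : ¬ r1 ∣ q + 1 := by
      intro h
      have e : q + 1 = (q - 1) + 2 := by omega
      rw [e] at h
      have := Nat.le_of_dvd (by norm_num) ((Nat.dvd_add_right e1).1 h)
      omega
    have n2 : ¬ r2 ∣ q - 1 := by
      intro h
      have e : q + 1 = (q - 1) + 2 := by omega
      rw [e] at e2
      have := Nat.le_of_dvd (by norm_num) ((Nat.dvd_add_right h).1 e2)
      omega
    have hcop : Nat.Coprime r1 r2 := by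
      rw [Nat.coprime_primes hr1 hr2]
      rintro rfl
      exact n1 e2
    have hd : r1 * r2 ∣ Nat.card F - 1 := by
      have e : Nat.card F - 1 = (q - 1) * (q + 1) := by
        rw [← hq, mul_comm, ← Nat.sq_sub_sq, one_pow]
      rw [e]
      exact Nat.mul_dvd_mul e1 e2
    obtain ⟨l, hl⟩ := exists_unit hd
    refine ⟨l, ?_, ?_, ?_⟩
    · rw [hl]; exact Nat.Coprime.mul_left (coprime_six hr1 hr15) (coprime_six hr2 hr25)
    · rintro rfl
      rw [orderOf_one] at hl
      have := Nat.le_of_dvd (by norm_num) (Dvd.intro r2 hl.symm)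
      omega
    · intro q' hq'
      have : q' = q := Nat.pow_left_injective two_ne_zero (hq'.trans hq.symm)
      rw [this, hl]
      exact ⟨fun h => n2 ((Nat.dvd_mul_left r2 r1).trans h), fun h => n1 ((Nat.dvd_mul_right r1 r2).trans h)⟩
  · obtain ⟨r, hr, hr5, hrd⟩ := exists_prime (a := s) (by omega)
    have e : r ∣ Nat.card F - 1 := by
      apply hrd.trans
      obtain ⟨d, rfl⟩ : ∃ d, s = d + 1 := ⟨s - 1, by omega⟩
      refine ⟨d, ?_⟩
      rw [hs]
      apply Nat.sub_eq_of_eq_add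
      ring
    obtain ⟨l, hl⟩ := exists_unit e
    refine ⟨l, ?_, ?_, fun q hq => absurd ⟨q, hq⟩ hsq⟩
    · rw [hl]; exact coprime_six hr hr5
    · rintro rfl
      rw [orderOf_one] at hl
      omega

/-- the fact `KZ` for `L₂(s³)`, `s` odd -/
theorem kz (R : Cfsg.Agent.GH.L2Aut.Rep F L) {s : ℕ} (hs : Nat.card F = s ^ 3) : KZ L := by
  classical
  intro z hz
  have hF : Odd (Nat.card F) := odd_card R.two
  have h2 : 2 ≤ Nat.card F := Finite.one_lt_card
  have hzz : z * z = 1 := by rw [← pow_two, ← hz, pow_orderOf_eq_one]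
  have hz1 : z ≠ 1 := by rintro rfl; rw [orderOf_one] at hz; omega
  obtain ⟨i, rfl, hi⟩ := R.exists_inv_lift hzz hz1
  suffices h : ∃ t : SL2, t * i = i * t ∧ ∃ r, Odd r ∧ Nat.Coprime r 6 ∧ t ^ r = 1 ∧ t ≠ 1 ∧
      ∀ σ : F ≃+* F, σ * σ = 1 → σ ≠ 1 → σ t.1.trace ≠ t.1.trace ∧ σ t.1.trace ≠ -t.1.trace by
    obtain ⟨t, ht, r, hr, hr6, htr, ht1, hσ⟩ := h
    obtain ⟨h3, h4⟩ := odd_facts R.two hr htr ht1
    refine ⟨R.π t, ?_, ?_, no_q8 R h3 h4 hσ⟩
    · rw [← map_mul, ht, map_mul]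
    · exact Nat.Coprime.coprime_dvd_left (orderOf_dvd_of_pow_eq_one (by rw [← map_pow, htr, map_one])) hr6
  have hodd6 : ∀ r : ℕ, Nat.Coprime r 6 → Odd r := by
    intro r hr
    have : Nat.Coprime r 2 := Nat.Coprime.coprime_dvd_right (by norm_num) hr
    exact Nat.coprime_two_right.1 this
  by_cases hsq : IsSquare (-1 : F)
  · obtain ⟨u, hu⟩ := hsq
    obtain ⟨l, hl6, hl1, hl⟩ := exists_l hs hF
    obtain ⟨t, ht, htr, ht1, htt⟩ := exists_split R hi hu.symm l hl1
    refine ⟨t, ht, orderOf l, hodd6 _ hl6, hl6, htr, ht1, fun σ h3 h4 => ?_⟩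
    rw [htt]
    exact hsig (hodd6 _ hl6) hl σ h3 h4
  · -- `|F| ≡ 3 (mod 4)`
    have hs0 : 2 ≤ s := by
      rcases Nat.lt_or_ge s 2 with h | h
      · exfalso; interval_cases s <;> omega
      · exact h
    have hs3 : s ≠ 2 := by
      rintro rfl
      rw [hs] at hF
      exact absurd hF (by decide)
    obtain ⟨d, rfl⟩ : ∃ d, s = d + 1 := ⟨s - 1, by omega⟩
    obtain ⟨r, hr, hr5, hrd⟩ := exists_prime (a := d) (by omega)
    have hd : r ∣ Nat.card F + 1 := by
      apply hrd.trans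
      refine ⟨d + 2, ?_⟩
      rw [hs]; ring
    obtain ⟨t, ht, htr, ht1⟩ := exists_nonsplit hsq hi hr hr5 hd
    refine ⟨t, ht, r, hodd6 _ (coprime_six hr hr5), coprime_six hr hr5, htr, ht1, fun σ h3 h4 => ?_⟩
    exfalso
    apply hsq
    obtain ⟨K, hK, hcard⟩ := exists_fixed_field σ
    have hord : orderOf σ = 2 := orderOf_eq_prime (by rw [pow_two]; exact h3) h4
    rw [hord] at hcard
    exact isSquare_of_mem R.two hcard even_two (K.neg_mem K.one_mem)

end

/-- the fact `KZ` for groups isomorphic to `PSL(2, F)`, `|F|` an odd cube -/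
theorem kz_of_equiv {F : Type*} [Field F] [Fintype F] (hF : Odd (Fintype.card F)) {s : ℕ}
    (hs : Fintype.card F = s ^ 3) {K : Type*} [Group K]
    (e : K ≃* Matrix.ProjectiveSpecialLinearGroup (Fin 2) F) : KZ K :=
  kz (Cfsg.Agent.GH.L2Aut.Rep.ofEquiv (Cfsg.Agent.GH.L2Aut.two_ne_zero_of_odd hF) e)
    (by rw [Nat.card_eq_fintype_card, hs])

end Cfsg.Agent.OddHalf.Quat.KZ

end

-- merged: Cfsg.Agent.OddHalf.Quat.GoodOdd
section

/-!
# Node Q: `K` of Lie type in odd characteristic, `Z(K) = 1`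

`good_odd` : `KGood K`, from node NI (`NoBig`, `NI3.NoThree`), (F1_3) and the row `PΩ₈⁺(3)`.
-/

set_option autoImplicit false

namespace Cfsg.Agent.OddHalf.Quat

open Subgroup Cfsg Cfsg.Agent.OddHalf.Iface Cfsg.Agent.OddHalf.LieOddFam

universe u

/-- the row `K = PΩ₈⁺(3)`, arbitrary centralizer -/
def RowO83 : Prop :=
  ∀ (G : Type u) [Group G], Ctx G → ∀ K : Subgroup G, Std0 G K → center ↥K = ⊥ →
    (∃ (F : Type) (_ : Field F) (_ : Fintype F), Fintype.card F = 3 ∧
      Nonempty (↥K ≃* POmega F (quadFormPlus 4 F))) → False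

/-- `L₂(q)`, `q` odd -/
theorem good_l2 {X : Type*} [Group X] (hcen : center X = ⊥) {F : Type} [Field F] [Fintype F]
    (hF : Odd (Fintype.card F)) (h5 : 5 ≤ Fintype.card F)
    (e : X ≃* Matrix.ProjectiveSpecialLinearGroup (Fin 2) F) : KGood X := by
  obtain ⟨p, hp⟩ := CharP.exists F
  have hpr : p.Prime := CharP.char_is_prime F p
  have : Fact p.Prime := ⟨hpr⟩
  obtain ⟨f, hf, hpf⟩ := card_pow (F := F) p
  by_cases h3 : 3 ∣ f
  · obtain ⟨k, rfl⟩ := h3
    right; right; right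
    exact KZ.kz_of_equiv hF (s := p ^ k) (by rw [hpf, ← pow_mul, mul_comm]) e
  · left
    exact NoThreeL.two p f hf hpf (by omega) h3 hcen e

/-- the small groups over the field with three elements -/
theorem good_small {X : Type*} [Group X] (hcen : center X = ⊥) (h : NI3.Small3 X)
    (h8 : ¬ ∃ (F : Type) (_ : Field F) (_ : Fintype F), Fintype.card F = 3 ∧
      Nonempty (X ≃* POmega F (quadFormPlus 4 F))) : NoThree X := by
  rcases h with ⟨F, _, _, hF, ⟨e⟩⟩ | ⟨F, _, _, hF, ⟨e⟩⟩ | ⟨F, _, _, hF, ⟨e⟩⟩ | ⟨F, _, _, hF, ⟨e⟩⟩ |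
    ⟨F, _, _, hF, ⟨e⟩⟩ | ⟨F, _, _, hF, ⟨e⟩⟩ | ⟨F, _, _, hF, ⟨e⟩⟩ | h | ⟨F, _, _, b, c, hF, hbc, ⟨e⟩⟩
  · exact NoThreeOdd.lin hF (by norm_num) hcen e
  · exact NoThreeOdd.uni hF (by norm_num) hcen e
  · exact NoThreeOdd.lin hF (by norm_num) hcen e
  · exact NoThreeOdd.uni hF (by norm_num) hcen e
  · exact NoThreeOdd.sp hF le_rfl hcen e
  · exact NoThreeOdd.g2 hF e
  · exact NoThreeOdd.odd hF le_rfl hcen e
  · exact absurd h h8
  · exact NoThreeOdd.minus (m := 4) hF le_rfl b c hbc hcen e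

theorem good_odd (hB : NI.NoBig.{u}) (h3 : NI3.NoThree.{u}) (hF : NI3.F13.{u}) (h8 : RowO83.{u})
    {G : Type u} [Group G] (C : Ctx G) {K : Subgroup G} (S : Std0 G K) (hz : center ↥K = ⊥)
    (hL : LieOdd ↥K) (ha : ¬ IsAlternating ↥K) : KGood ↥K := by
  rcases lieOdd_cases hL ha with h | h | h | ⟨q, hq, h⟩
  · obtain ⟨F, _, _, h7, ⟨e⟩⟩ := h
    exact good_l2 hz (by rw [h7]; decide) (by omega) e
  · obtain ⟨F, _, _, ho, h11, ⟨e⟩⟩ := h
    exact good_l2 hz ho (by omega) e
  · exact Or.inr (Or.inl (RowRee.ree h))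
  · by_cases hq3 : q = 3
    · subst hq3
      exact Or.inl (good_small hz (NI3.Final.small_of_rk h3 hF C S hz h) fun h4 => h8 G C K S hz h4)
    · exact (NI.Rows.d6_big hB C S hz hq (hq.ne_four hq3) h).elim

end Cfsg.Agent.OddHalf.Quat

end
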