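import Cfsg.Agent.OddHalf.D4.Rk2.False_m3
import Cfsg.Agent.OddHalf.Quat.NoThreeTools
import Cfsg.Agent.OddHalf.Quat.Classical_m3
import Cfsg.Agent.OddHalf.D4.Rk2.Row_m3
import Cfsg.Agent.OddHalf.Cyc_m3
import Cfsg.Agent.OddHalf.Soft
import Cfsg.Agent.Cit.OneBasic
import Cfsg.Agent.FastGrp
import Cfsg.Agent.Prune
set_option linter.all false
prune_inst 0x7f00000000000000000000000000000000000000000000000000000000000000000000000000000000000000000000000000000000000000000000000000000000000000000000000000000000000000003fffffffffffffffffffffffffffbeffbdffffffff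
open scoped Cfsg.Agent.FastGrp

-- merged: Cfsg.Agent.OddHalf.Quat.Even
section

/-!
# Node Q: standard groups with even centre

`Base0.false_three` : no `K ⊴ C(z)` with `C(K) ∩ C(z) = Q` and `NoThree K` (no hypothesis on the centre of `K`, nor on
`Om(S)`).
`Base0.false_sz` : `K` contains `z`, `Out(K)` has odd order and `K` has no quaternion subgroup which avoids the centre.
-/

set_option autoImplicit false

namespace Cfsg.Agent.OddHalf.Quat

open Subgroup Cfsg Cfsg.Agent.Cit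

variable {G : Type*} [Group G]

theorem sq_of_central {Q : Subgroup G} {c v z : G} {n : ℕ} (h : GQ Q c v z n) {x : G} (hx : x ∈ Q)
    (hc : ∀ q ∈ Q, x * q = q * x) : x * x = 1 := by
  rcases h.cov x hx with ⟨i, rfl⟩ | ⟨i, rfl⟩
  · have h1 := hc v h.v_mem
    rw [h.conj_pow] at h1
    have h2 := mul_right_cancel h1
    calc c ^ i * c ^ i = c ^ i * (c ^ i)⁻¹ := by rw [← h2]
      _ = 1 := mul_inv_cancel _
  · exfalso
    have h1 := hc c h.c_mem
    apply h.not_comm
    have h2 : v * c * c ^ i = c * v * c ^ i := by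
      calc v * c * c ^ i = v * (c * c ^ i) := by group
        _ = v * (c ^ i * c) := by rw [← pow_succ', ← pow_succ]
        _ = v * c ^ i * c := by group
        _ = c * v * c ^ i := by rw [h1]; group
    exact mul_right_cancel h2

namespace Base0

variable {z : G} {Q K : Subgroup G} [Finite G]

theorem false_three [IsSimpleGroup G] (hna : ¬ IsMulCommutative G) (b : Base0 z Q)
    (hKn : centralizer {z} ≤ normalizer (K : Set G)) (hKz : K ≤ centralizer {z})
    (hC : centralizer (K : Set G) ⊓ centralizer {z} = Q) (hK : NoThree ↥K) : False := by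
  obtain ⟨c, hc, ⟨k, hck⟩, q, hq, hcq⟩ := b.exists_three hna
  have hcomm : ∀ {x y : G}, x ∈ K → y ∈ Q → x * y = y * x := by
    intro x y hx hy
    rw [← hC] at hy
    exact mem_centralizer_iff.1 hy.1 x hx
  set α : MulAut K := K.normalizerMonoidHom ⟨c, hKn hc⟩ with hα
  have h1 : ∀ (j : ℕ) (β : MulAut K), β ^ 3 ^ j = 1 → β ∈ (MulAut.conj : K →* MulAut K).range := by
    intro j
    induction j with
    | zero =>
      intro β hβ
      rw [pow_zero, pow_one] at hβ
      rw [hβ]; exact one_mem _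
    | succ j ih =>
      intro β hβ
      apply hK
      apply ih
      have h2 : β * β * β = β ^ 3 := by rw [pow_succ, pow_two]
      rw [h2, ← pow_mul, ← pow_succ', hβ]
  obtain ⟨⟨m, hm⟩, hmα⟩ := h1 k α (by
    have h2 : (⟨c, hKn hc⟩ : normalizer (K : Set G)) ^ 3 ^ k = 1 := Subtype.ext hck
    rw [hα, ← map_pow, h2, map_one])
  have h2 : ∀ x ∈ K, c * x * c⁻¹ = m * x * m⁻¹ := by
    intro x hx
    have h3 : (MulAut.conj (⟨m, hm⟩ : K)) ⟨x, hx⟩ = α ⟨x, hx⟩ := by rw [hmα]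
    exact (congrArg Subtype.val h3).symm
  have hp : m⁻¹ * c ∈ Q := by
    rw [← hC]
    refine ⟨mem_centralizer_iff.2 fun x hx => ?_, Subgroup.mul_mem _ (Subgroup.inv_mem _ (hKz hm)) hc⟩
    have h3 := h2 x hx
    calc x * (m⁻¹ * c) = m⁻¹ * (m * x * m⁻¹) * c := by group
      _ = m⁻¹ * (c * x * c⁻¹) * c := by rw [h3]
      _ = m⁻¹ * c * x := by group
  set p := m⁻¹ * c with hpdef
  have hcmp : c = m * p := by rw [hpdef]; group
  have hmp : Commute m p := hcomm hm hp
  have h4 : m ^ 3 ^ k * p ^ 3 ^ k = 1 := by rw [← hmp.mul_pow, ← hcmp, hck]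
  -- `p ^ 3 ^ k ∈ K` commutes with `Q`
  have h5 : p ^ 3 ^ k * q = q * p ^ 3 ^ k := by
    refine hcomm ?_ hq
    have h6 : p ^ 3 ^ k = (m ^ 3 ^ k)⁻¹ := eq_inv_of_mul_eq_one_right h4
    rw [h6]
    exact K.inv_mem (K.pow_mem hm _)
  have h6 : p * q = q * p := by
    obtain ⟨j, hj⟩ := b.two ⟨p, hp⟩
    have hj' : p ^ 2 ^ j = 1 := congrArg Subtype.val hj
    have h9 : Nat.Coprime (3 ^ k) (2 ^ j) := Nat.Coprime.pow _ _ (by norm_num)
    obtain ⟨s, hs⟩ := exists_pow_eq_self_of_coprime (x := p) (n := 3 ^ k)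
      (h9.coprime_dvd_right (orderOf_dvd_of_pow_eq_one hj'))
    have h10 := ((show Commute (p ^ 3 ^ k) q from h5).pow_left s).eq
    rwa [hs] at h10
  apply hcq
  rw [hcmp, mul_assoc, h6, ← mul_assoc, hcomm hm hq, mul_assoc]

theorem eq_of_zz (b : Base0 z Q) {K L : Subgroup G} (hK : K ∈ cls Q) (hL : L ∈ cls Q) (h : zz K = zz L) :
    K = L := by
  obtain ⟨g, rfl⟩ := hK
  obtain ⟨k, rfl⟩ := hL
  rw [b.hyp.zz_cj (self_mem_cls Q), b.hyp.zz_cj (self_mem_cls Q), b.zz_eq] at h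
  have h2 : g⁻¹ * k ∈ centralizer {z} := by
    rw [mem_centralizer_singleton_iff]
    calc g⁻¹ * k * z = g⁻¹ * (k * z * k⁻¹) * k := by group
      _ = g⁻¹ * (g * z * g⁻¹) * k := by rw [h]
      _ = z * (g⁻¹ * k) := by group
  have h3 := mem_normalizer_iff_cj.1 (b.Qn h2)
  rw [cj_mul] at h3
  have h4 := congrArg (cj g) h3
  rw [cj_cj_inv] at h4
  exact h4.symm

theorem inf_eq_one (b : Base0 z Q) {L : Subgroup G} (hL : L ∈ cls Q) (hne : L ≠ Q) {x : G} (hx : x ∈ L)
    (hxQ : x ∈ Q) : x = 1 := by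
  refine b.hyp.eq_one_of_mem hL (b.two_of_mem hL) ?_ hx hxQ
  intro h
  have h1 := b.eq_z h (b.hyp.zz_mul hL) (b.hyp.zz_ne hL)
  exact hne (b.eq_of_zz hL (self_mem_cls Q) (by rw [h1, b.zz_eq]))

theorem false_sz [IsSimpleGroup G] (hna : ¬ IsMulCommutative G) (b : Base0 z Q)
    (hn : ∃ L ∈ cls Q, L ≠ Q ∧ ∀ x ∈ Q, ∀ y ∈ L, x * y = y * x)
    (hKn : centralizer {z} ≤ normalizer (K : Set G)) (hKz : K ≤ centralizer {z})
    (hC : centralizer (K : Set G) ⊓ centralizer {z} = Q) (hzK : z ∈ K)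
    (hout : ¬ 2 ∣ (MulAut.conj : K →* MulAut K).range.index)
    (hno : ∀ P : Subgroup ↥K, (∀ x ∈ P, x ∈ center ↥K → x = 1) → ¬ Nonempty (P ≃* QuaternionGroup 2)) :
    False := by
  obtain ⟨L, hL, hne, hc⟩ := hn
  have h8 := b.card_eight hna
  have hcomm : ∀ {x y : G}, x ∈ K → y ∈ Q → x * y = y * x := by
    intro x y hx hy
    rw [← hC] at hy
    exact mem_centralizer_iff.1 hy.1 x hx
  have hLz : L ≤ centralizer {z} := by
    intro y hy
    rw [mem_centralizer_singleton_iff]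
    exact (hc z b.zQ y hy).symm
  have hrn : (MulAut.conj : K →* MulAut K).range.Normal := by
    refine ⟨?_⟩
    rintro _ ⟨m, rfl⟩ g
    refine ⟨g m, ?_⟩
    ext x
    simp [MulAut.conj_apply]
  have hLK : L ≤ K := by
    intro y hy
    set α : MulAut K := K.normalizerMonoidHom ⟨y, hKn (hLz hy)⟩ with hα
    obtain ⟨j, hj⟩ := (b.two_of_mem hL) ⟨y, hy⟩
    have hj' : y ^ 2 ^ j = 1 := congrArg Subtype.val hj
    have hαj : α ^ 2 ^ j = 1 := by
      have h2 : (⟨y, hKn (hLz hy)⟩ : normalizer (K : Set G)) ^ 2 ^ j = 1 := Subtype.ext hj'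
      rw [hα, ← map_pow, h2, map_one]
    have hαr : α ∈ (MulAut.conj : K →* MulAut K).range := by
      have h3 : orderOf (QuotientGroup.mk' (MulAut.conj : K →* MulAut K).range α) ∣ 2 ^ j := by
        apply orderOf_dvd_of_pow_eq_one
        rw [← map_pow, hαj, map_one]
      have h4 : orderOf (QuotientGroup.mk' (MulAut.conj : K →* MulAut K).range α) ∣
          (MulAut.conj : K →* MulAut K).range.index := by
        rw [Subgroup.index_eq_card]
        exact orderOf_dvd_natCard _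
      have h5 : Nat.Coprime (2 ^ j) (MulAut.conj : K →* MulAut K).range.index :=
        Nat.Coprime.pow_left _ ((Nat.Prime.coprime_iff_not_dvd Nat.prime_two).2 hout)
      have h6 := orderOf_eq_one_iff.1 (Nat.eq_one_of_dvd_coprimes h5 h3 h4)
      exact (QuotientGroup.eq_one_iff α).1 h6
    obtain ⟨⟨m, hm⟩, hmα⟩ := hαr
    have h2 : ∀ x ∈ K, y * x * y⁻¹ = m * x * m⁻¹ := by
      intro x hx
      have h3 : (MulAut.conj (⟨m, hm⟩ : K)) ⟨x, hx⟩ = α ⟨x, hx⟩ := by rw [hmα]
      exact (congrArg Subtype.val h3).symm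
    have hp : m⁻¹ * y ∈ Q := by
      rw [← hC]
      refine ⟨mem_centralizer_iff.2 fun x hx => ?_, Subgroup.mul_mem _ (Subgroup.inv_mem _ (hKz hm)) (hLz hy)⟩
      have h3 := h2 x hx
      calc x * (m⁻¹ * y) = m⁻¹ * (m * x * m⁻¹) * y := by group
        _ = m⁻¹ * (y * x * y⁻¹) * y := by rw [h3]
        _ = m⁻¹ * y * x := by group
    -- `p = m⁻¹ y` commutes with `Q`
    have hpQ : ∀ q ∈ Q, m⁻¹ * y * q = q * (m⁻¹ * y) := by
      intro q hq
      have h3 : m⁻¹ * q = q * m⁻¹ := hcomm (K.inv_mem hm) hq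
      rw [mul_assoc, ← hc q hq y hy, ← mul_assoc, h3, mul_assoc]
    obtain ⟨c, v, z', n, hg⟩ := exists_gq b.gq
    have hpz : m⁻¹ * y = 1 ∨ m⁻¹ * y = z := by
      by_cases h3 : m⁻¹ * y = 1
      · exact Or.inl h3
      right
      refine b.eq_z hp ?_ h3
      exact sq_of_central hg hp hpQ
    rcases hpz with h3 | h3
    · have h4 : y = m := by rw [← inv_mul_eq_one]; rw [← inv_inv (y⁻¹ * m), mul_inv_rev, inv_inv, h3, inv_one]
      rw [h4]; exact hm
    · have h4 : y = m * z := by rw [← h3]; group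
      rw [h4]; exact K.mul_mem hm hzK
  refine hno (L.subgroupOf K) ?_ ?_
  · intro x hx hxc
    rw [mem_subgroupOf] at hx
    have h3 : (x : G) ∈ Q := by
      rw [← hC]
      refine ⟨mem_centralizer_iff.2 fun y hy => ?_, hKz x.2⟩
      exact congrArg Subtype.val (mem_center_iff.1 hxc ⟨y, hy⟩)
    exact Subtype.ext (b.inf_eq_one hL hne hx h3)
  · obtain ⟨g, rfl⟩ := hL
    obtain ⟨e⟩ := b.equiv_quat h8
    exact ⟨((subgroupOfEquivOfLe hLK).trans (cjEquiv g Q).symm).trans e⟩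

end Base0

end Cfsg.Agent.OddHalf.Quat

end

-- merged: Cfsg.Agent.OddHalf.Quat.Node
section

/-!
# Node Q: from a standard subgroup `K` with quaternion Sylow 2-subgroups of `C(K)` to the frame

`exists_frame` : `Frame z Q K`, `Q = C(K) ∩ C(z)`.
`Frame.false_good` : `Z(K) = 1`, `KGood K`. `Frame.false_three`, `Frame.false_sz` : `Z(K)` arbitrary.
`exists_ne_of_not_one` : if `|Om(S)| ≠ 1`, another conjugate of `Q` commutes with `Q`.
-/

set_option autoImplicit false
set_option linter.style.haveILetI false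

namespace Cfsg.Agent.OddHalf.Quat

open Subgroup Cfsg Cfsg.Agent.Cit Cfsg.Agent.OddHalf.Iface

universe u

/-- the frame of node Q -/
structure Frame {G : Type*} [Group G] (z : G) (Q K : Subgroup G) : Prop extends Base0 z Q where
  Kn : centralizer {z} ≤ normalizer (K : Set G)
  Kz : K ≤ centralizer {z}
  cent : centralizer (K : Set G) ⊓ centralizer {z} = Q
  core : OO K = ⊥

section

variable {G : Type u} [Group G] [Finite G]

/-- **step (0)** of node Q -/
theorem exists_frame (hGW : SylowSp4.Hyps.GW.{u}) {K : Subgroup G} (S : Std0 G K)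
    (hbal : ∀ t : G, orderOf t = 2 → centralizerPPrimeCore 2 t = ⊥)
    (hcl : ∀ (z : G) (J : Subgroup G), orderOf z = 2 → SubOf z J → ¬ Classical ↥J)
    (h : PRankLE 2 1 ↥(centralizer (K : Set G))) (hc : ¬ Cyc K) : ∃ z Q, Frame z Q K := by
  haveI : Fact (Nat.Prime 2) := ⟨Nat.prime_two⟩
  unfold Cyc at hc
  push Not at hc
  obtain ⟨R, hR⟩ := hc
  have hRr : PRankLE 2 1 ↥(R : Subgroup ↥(centralizer (K : Set G))) := OddOrderLocal.Rank.pRankLE_subgroup h
  obtain ⟨n, ⟨e⟩⟩ : ∃ n : ℕ, Nonempty (↥(R : Subgroup ↥(centralizer (K : Set G))) ≃* QuaternionGroup (2 ^ (n + 1))) := by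
    rcases Classification.RankOneCore.cyclic_or_quaternion R.isPGroup' hRr with h1 | ⟨n, ⟨e⟩⟩
    · exact absurd h1 hR
    obtain _ | n := n
    · exfalso
      apply hR
      have h3 : IsCyclic (QuaternionGroup 1) := QuaternionGroup.quaternionGroup_one_isCyclic
      have e' : ↥(R : Subgroup ↥(centralizer (K : Set G))) ≃* QuaternionGroup 1 := e
      exact isCyclic_of_surjective e'.symm e'.symm.surjective
    · exact ⟨n, ⟨e⟩⟩
  have hne : (R : Subgroup ↥(centralizer (K : Set G))) ≠ ⊥ := by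
    intro hb
    have h2 : Nat.card ↥(R : Subgroup ↥(centralizer (K : Set G))) = 1 := by rw [hb, Subgroup.card_bot]
    have h3 := Nat.card_congr e.toEquiv
    have : NeZero (2 ^ (n + 1)) := ⟨by positivity⟩
    rw [h2, Nat.card_eq_fintype_card, QuaternionGroup.card] at h3
    have := Nat.one_le_two_pow (n := n + 1)
    omega
  obtain ⟨z, hzR, hz1, hz2, hzc, -⟩ :=
    Classification.RankOneCore.exists_unique_involution R.isPGroup' hRr hne
  have hzo : orderOf (z : G) = 2 := by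
    rw [Subgroup.orderOf_coe]
    exact orderOf_eq_prime hz2 hz1
  have hCN : centralizer ({(z : G)} : Set G) ≤ normalizer (K : Set G) :=
    (Cfsg.Agent.S1754.result K S.std (z : G) hzo z.2).1
  have hCX : ∀ g ∈ centralizer ({(z : G)} : Set G), ∀ x ∈ centralizer (K : Set G),
      g * x * g⁻¹ ∈ centralizer (K : Set G) := by
    intro g hg x hx
    rw [mem_centralizer_iff] at hx ⊢
    intro k hk
    have h4 := Cyc.mem_normalizer.mp (inv_mem (hCN hg)) k
    rw [inv_inv] at h4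
    have h5 := hx _ (h4.mp hk)
    calc k * (g * x * g⁻¹) = g * ((g⁻¹ * k * g) * x) * g⁻¹ := by group
      _ = g * (x * (g⁻¹ * k * g)) * g⁻¹ := by rw [h5]
      _ = g * x * g⁻¹ * k := by group
  set J : Subgroup G := centralizer (K : Set G) ⊓ centralizer ({(z : G)} : Set G) with hJ
  have hJC : ∀ g ∈ centralizer ({(z : G)} : Set G), ∀ x ∈ J, g * x * g⁻¹ ∈ J := by
    intro g hg x hx
    exact ⟨hCX g hg x hx.1, Subgroup.mul_mem _ (Subgroup.mul_mem _ hg hx.2) (Subgroup.inv_mem _ hg)⟩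
  have hJN : centralizer ({(z : G)} : Set G) ≤ normalizer (J : Set G) := by
    intro g hg
    rw [Cyc.mem_normalizer]
    intro x
    refine ⟨hJC g hg x, fun hx => ?_⟩
    have h4 := hJC g⁻¹ (inv_mem hg) _ hx
    have h5 : g⁻¹ * (g * x * g⁻¹) * g⁻¹⁻¹ = x := by group
    rwa [h5] at h4
  have hzz : (z : G) ∈ centralizer ({(z : G)} : Set G) := mem_centralizer_singleton_iff.mpr rfl
  have hzJ : (z : G) ∈ J := ⟨z.2, hzz⟩
  have hnorm : (J.subgroupOf (centralizer ({(z : G)} : Set G))).Normal :=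
    Subgroup.normal_subgroupOf_of_le_normalizer hJN
  have hRJ : (R : Subgroup ↥(centralizer (K : Set G))).map (centralizer (K : Set G)).subtype ≤ J := by
    rintro _ ⟨r, hr, rfl⟩
    refine ⟨r.2, mem_centralizer_singleton_iff.mpr ?_⟩
    exact (congrArg Subtype.val (hzc r hr)).symm
  have hJr : PRankLE 2 1 ↥J := by
    refine D1.rankLE_of_injective (inclusion (inf_le_left : J ≤ centralizer (K : Set G)))
      (inclusion_injective _) h
  have hJ2 : IsPGroup 2 ↥J :=
    isPGroup_of_classical hGW hzo hzJ inf_le_right hnorm.isSubnormal (hbal _ hzo) hJr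
      (fun L hL => hcl _ L hzo hL)
  obtain ⟨T, ⟨eT⟩⟩ := Cyc.exists_sylow (X := centralizer (K : Set G)) inf_le_left R hRJ
  have hT : (T : Subgroup ↥J) = ⊤ := by
    have h1 : IsPGroup 2 (⊤ : Subgroup ↥J) := hJ2.to_subgroup ⊤
    exact (T.is_maximal' h1 le_top).symm
  have hKz : K ≤ centralizer ({(z : G)} : Set G) := by
    intro k hk
    rw [mem_centralizer_singleton_iff]
    exact mem_centralizer_iff.1 z.2 k hk
  refine ⟨z, J, ⟨⟨hzo, hzJ, hJ2, ⟨n, ⟨?_⟩⟩, inf_le_right, hJN⟩, hCN, hKz, rfl, ?_⟩⟩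
  · exact ((Subgroup.topEquiv.symm.trans (MulEquiv.subgroupCongr hT.symm)).trans eT).trans e
  · have h1 : (K.subgroupOf (centralizer ({(z : G)} : Set G))).Normal :=
      Subgroup.normal_subgroupOf_of_le_normalizer hCN
    rw [OO_def, oddCore_of_sub (hbal _ hzo) hKz h1.isSubnormal, Subgroup.map_bot]

variable {z : G} {Q K : Subgroup G}

/-- if `|Om(S)| ≠ 1`, another conjugate of `Q` commutes with `Q` -/
theorem exists_ne_of_not_one (b : Base0 z Q) (h : ¬ One (cls Q)) :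
    ∃ L ∈ cls Q, L ≠ Q ∧ ∀ x ∈ Q, ∀ y ∈ L, x * y = y * x := by
  by_contra hcon
  push Not at hcon
  apply h
  refine ⟨b.hyp, ?_⟩
  intro S hS K hK L hL
  by_contra hne
  obtain ⟨⟨g, rfl⟩, hK2⟩ := hK
  have hKS : cj g Q ≤ S := by
    have h3 := (syl_inf hS (K := cj g Q) (Om := cls Q) ⟨⟨g, rfl⟩, hK2⟩).eq_of_le inf_le_left le_rfl
      (b.two_of_mem ⟨g, rfl⟩)
    rw [← h3]
    exact inf_le_right
  have hLS : L ≤ S := by
    have h3 := (syl_inf hS hL).eq_of_le inf_le_left le_rfl (b.two_of_mem hL.1)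
    rw [← h3]
    exact inf_le_right
  obtain ⟨x, hx, y, hy, hxy⟩ := hcon (cj g⁻¹ L) (b.hyp.conj L hL.1 g⁻¹) (by
    intro h1
    apply hne
    have h2 := congrArg (cj g) h1
    rw [cj_cj_inv] at h2
    exact h2.symm)
  apply hxy
  have h4 := b.hyp.comm hS (K := cj g Q) ⟨⟨g, rfl⟩, hK2⟩ hL hne (a := g * x * g⁻¹) (b := g * y * g⁻¹)
    ⟨conj_mem_cj hx, hKS (conj_mem_cj hx)⟩ (by
      have h5 : g * y * g⁻¹ ∈ L := by
        have h6 := mem_cj.1 hy
        rwa [inv_inv] at h6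
      exact ⟨h5, hLS h5⟩)
  calc x * y = g⁻¹ * ((g * x * g⁻¹) * (g * y * g⁻¹)) * g := by group
    _ = g⁻¹ * ((g * y * g⁻¹) * (g * x * g⁻¹)) * g := by rw [h4]
    _ = y * x := by group

namespace Frame

/-- the frame for `Z(K) = 1` -/
theorem base (f : Frame z Q K) (hZ : center ↥K = ⊥) : Base z Q K := by
  refine ⟨f.zo, f.zQ, f.two, f.gq, f.Qn, f.Kn, f.cent, ?_, f.core⟩
  intro hzK
  have h1 : (⟨z, hzK⟩ : ↥K) ∈ center ↥K := by
    rw [mem_center_iff]
    intro y
    exact Subtype.ext (mem_centralizer_singleton_iff.1 (f.Kz y.2))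
  rw [hZ, mem_bot] at h1
  exact f.ne_one (congrArg Subtype.val h1)

theorem false_good [IsSimpleGroup G] (hna : ¬ IsMulCommutative G) (f : Frame z Q K) (h1 : ¬ One (cls Q))
    (hZ : center ↥K = ⊥) (hK : KGood ↥K) : False :=
  (f.base hZ).false hna (exists_ne_of_not_one f.toBase0 h1) hK

theorem false_three [IsSimpleGroup G] (hna : ¬ IsMulCommutative G) (f : Frame z Q K) (hK : NoThree ↥K) : False :=
  f.toBase0.false_three hna f.Kn f.Kz f.cent hK

/-- `Z(K) ≤ ⟨z⟩` -/
theorem center_le (f : Frame z Q K) {x : ↥K} (hx : x ∈ center ↥K) : (x : G) = 1 ∨ (x : G) = z := by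
  have hxc : ∀ y ∈ K, y * x = x * y := fun y hy => congrArg Subtype.val (mem_center_iff.1 hx ⟨y, hy⟩)
  have hxQ : (x : G) ∈ Q := by
    rw [← f.cent]
    exact ⟨mem_centralizer_iff.2 hxc, f.Kz x.2⟩
  by_cases h1 : (x : G) = 1
  · exact Or.inl h1
  right
  obtain ⟨c, v, z', n, hg⟩ := exists_gq f.gq
  refine f.eq_z hxQ (sq_of_central hg hxQ fun q hq => ?_) h1
  have h2 : q ∈ centralizer (K : Set G) := by
    rw [← f.cent] at hq
    exact hq.1
  exact mem_centralizer_iff.1 h2 x x.2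

theorem false_sz [IsSimpleGroup G] (hna : ¬ IsMulCommutative G) (f : Frame z Q K) (h1 : ¬ One (cls Q))
    (hZ : center ↥K ≠ ⊥) (hout : ¬ 2 ∣ (MulAut.conj : K →* MulAut K).range.index)
    (hno : ∀ P : Subgroup ↥K, (∀ x ∈ P, x ∈ center ↥K → x = 1) → ¬ Nonempty (P ≃* QuaternionGroup 2)) :
    False := by
  refine f.toBase0.false_sz hna (exists_ne_of_not_one f.toBase0 h1) f.Kn f.Kz f.cent ?_ hout hno
  obtain ⟨x, hx, hx1⟩ := (Subgroup.ne_bot_iff_exists_ne_one (H := center ↥K)).1 hZ |>.elim fun a ha => (⟨a, a.2, fun h => ha (Subtype.ext h)⟩ : ∃ x ∈ center ↥K, x ≠ 1)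
  rcases f.center_le hx with h | h
  · exact absurd (Subtype.ext h) hx1
  · rw [← h]; exact x.2

end Frame

end

end Cfsg.Agent.OddHalf.Quat

end
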